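import Cfsg.Agent.Lib.FewSyl.Base
import Cfsg.Agent.Lib.Invol.SylowElem

/-!
Class multiplication coefficients and counting for a self-centralizing subgroup of prime order.
-/

set_option autoImplicit false
set_option linter.unusedSectionVars false
set_option linter.style.haveILetI false

namespace CfsgLib.FewSyl

open Subgroup Cfsg CfsgLib.Char CfsgLib.ChDeg CfsgLib.DefectOne CfsgLib.DefectOne.B43
open scoped ComplexConjugate

variable {G : Type*} [Group G] [Finite G] {p : ℕ} [hp : Fact p.Prime] {x : G} {ζ : ℂ}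

/-- class multiplication coefficient -/
noncomputable def cmc (a b c : G) : ℕ :=
  Nat.card {q : G × G // IsConj a q.1 ∧ IsConj b q.2 ∧ q.1 * q.2 = c}

theorem cmc_inv_le {i j : G} (hi : orderOf i = 2) (hj : orderOf j = 2) (c : G) :
    cmc i j c ≤ Nat.card (CC c) :=
  le_trans (Nat.card_le_card_of_injective (Subtype.map id fun _ hq =>
    ⟨(PSL2Rec.orderOf_eq_of_isConj hq.1).symm.trans hi,
      (PSL2Rec.orderOf_eq_of_isConj hq.2.1).symm.trans hj, hq.2.2⟩)
    (Subtype.map_injective _ Function.injective_id)) (Invol.card_pairs_le c)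

theorem not_cyc [IsSimpleGroup G] (hperf : commutator G = ⊤) (h2 : 2 ∣ Nat.card G) (T : Sylow 2 G) :
    ¬ IsCyclic (T : Subgroup G) := fun h => by
  obtain ⟨N, hN, h1⟩ := Invol.exists_normal_complement_of_isCyclic T h
  rcases hN.eq_bot_or_eq_top with rfl | rfl
  · rw [isComplement'_bot_left] at h1
    rw [h1] at h
    haveI := isCyclic_of_surjective _ (topEquiv (G := G)).surjective
    haveI : IsMulCommutative G := inferInstance
    exact bot_ne_top ((commutator_eq_bot (G := G)).symm.trans hperf)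
  · rw [isComplement'_top_left] at h1
    exact T.not_dvd_index (by rwa [h1, index_bot])

theorem mem_zpowers_of_pow {v z : G} {q c : ℕ} (hq : 0 < q) (hv : orderOf v = c * q)
    (hz : z ∈ zpowers v) (h : z ^ q = 1) : z ∈ zpowers (v ^ c) := by
  obtain ⟨i, rfl⟩ := mem_powers_iff_mem_zpowers.2 hz
  rw [← pow_mul, ← orderOf_dvd_iff_pow_eq_one, hv] at h
  obtain ⟨l, rfl⟩ := Nat.dvd_of_mul_dvd_mul_right hq h
  exact (congrArg (· ∈ _) (pow_mul v c l)).mpr (pow_mem (mem_zpowers _) l)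

theorem sq_dvd_card_cent {q a : ℕ} (hq : q.Prime) {v : G} (hv : orderOf v = q ^ a * q)
    (h : q ∣ (CC (v ^ q ^ a)).index) : (q ^ a * q) ^ 2 ∣ Nat.card (CC (v ^ q ^ a)) := by
  haveI := Fact.mk hq
  have hy : orderOf (v ^ q ^ a) = q := by
    rw [orderOf_pow_of_dvd (pow_pos hq.pos a).ne' (hv ▸ dvd_mul_right _ _), hv,
      Nat.mul_div_cancel_left _ (pow_pos hq.pos a)]
  have hvy : v ∈ CC (v ^ q ^ a) := mem_CC.2 ((Commute.refl v).pow_left _)
  obtain ⟨S₀, hS₀⟩ := PSL2Rec.exists_sylow_mem (p := q) (x := (⟨v, hvy⟩ : CC (v ^ q ^ a)))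
    (k := a + 1) (Subtype.ext (by simp [pow_succ, ← hv]))
  obtain ⟨m, hm⟩ := IsPGroup.iff_card.1 S₀.isPGroup'
  set S := (S₀ : Subgroup (CC (v ^ q ^ a))).map (CC (v ^ q ^ a)).subtype with hS
  have hSc : Nat.card S = q ^ m := (card_map_of_injective (subtype_injective _)).trans hm
  have hvS : v ∈ S := ⟨_, hS₀, rfl⟩
  obtain ⟨K, hK, hSK⟩ := Sylow.exists_subgroup_card_pow_succ (G := G) (by
    rw [← card_mul_index (CC (v ^ q ^ a)), pow_succ, ← hm]
    exact mul_dvd_mul (card_subgroup_dvd_card _) h) hSc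
  have hn : (S.subgroupOf K).Normal := normal_of_index_eq_minFac_card (by
    have := (S.subgroupOf K).card_mul_index
    rw [Nat.card_congr (subgroupOfEquivOfLe hSK).toEquiv, hSc, hK, pow_succ] at this
    rw [Nat.eq_of_mul_eq_mul_left (pow_pos hq.pos m) this, hK, hq.pow_minFac m.succ_ne_zero])
  obtain ⟨g, hg, hgy⟩ : ∃ g ∈ K, g ∉ CC (v ^ q ^ a) := by
    by_contra h1
    push Not at h1
    have h2 := S₀.is_maximal' ((IsPGroup.of_card hK).comap_subtype (K := CC (v ^ q ^ a)))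
      (map_le_iff_le_comap.1 hSK)
    have h3 : K ≤ S := fun g hg => ⟨⟨g, h1 g hg⟩, h2.le hg, rfl⟩
    have := card_le_of_le h3
    rw [hK, hSc] at this
    exact absurd this (not_le.2 (Nat.pow_lt_pow_right hq.one_lt m.lt_succ_self))
  have hv' : g * v * g⁻¹ ∈ S := mem_subgroupOf.1 (hn.conj_mem ⟨v, hSK hvS⟩ hvS ⟨g, hg⟩)
  have ho : orderOf (g * v * g⁻¹) = q ^ a * q := ((MulAut.conj g).orderOf_eq v).trans hv
  have h1 : Disjoint (zpowers v) (zpowers (g * v * g⁻¹)) := by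
    by_contra h1
    rw [disjoint_iff, ← card_eq_one] at h1
    have h2 := card_dvd_of_le (inf_le_left (a := zpowers v) (b := zpowers (g * v * g⁻¹)))
    rw [Nat.card_zpowers, hv, ← pow_succ] at h2
    obtain ⟨i, -, hi⟩ := (Nat.dvd_prime_pow hq).1 h2
    obtain ⟨z, hz⟩ := exists_prime_orderOf_dvd_card' (G := ↥(zpowers v ⊓ zpowers (g * v * g⁻¹))) q
      (hi ▸ dvd_pow_self q fun h0 => h1 (by rw [hi, h0, pow_zero]))
    rw [← Subgroup.orderOf_coe] at hz
    have hz1 := PSL2Rec.ne_one_of_orderOf_prime hq hz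
    have h2 := PSL2Rec.eq_zpowers_of_prime_card ((Nat.card_zpowers _).trans hy)
      (mem_zpowers_of_pow hq.pos hv z.2.1 (hz ▸ pow_orderOf_eq_one _)) hz1
    have h3 := mem_zpowers_of_pow hq.pos ho z.2.2 (hz ▸ pow_orderOf_eq_one _)
    rw [conj_pow] at h3
    have h4 := PSL2Rec.eq_zpowers_of_prime_card ((Nat.card_zpowers _).trans
      (((MulAut.conj g).orderOf_eq _).trans hy)) h3 hz1
    have h5 : g ∈ NN (v ^ q ^ a) :=
      SmallSimple.mem_normalizer_zpowers (h2 ▸ h4 ▸ mem_zpowers (MulAut.conj g (v ^ q ^ a)))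
    have h6 := PSL2Rec.relIndex_centralizer_dvd_of_prime _ ((Nat.card_zpowers _).trans hy)
    rw [SmallSimple.centralizer_zpowers] at h6
    haveI : ((CC (v ^ q ^ a)).subgroupOf (NN (v ^ q ^ a))).Normal :=
      (normal_subgroupOf_iff_le_normalizer (CC_le_NN _)).2 (NN_le_normalizer_CC _)
    have h7 : g ^ ee (v ^ q ^ a) ∈ CC (v ^ q ^ a) :=
      mem_subgroupOf.1 (((CC (v ^ q ^ a)).subgroupOf (NN (v ^ q ^ a))).pow_index_mem ⟨g, h5⟩)
    refine hgy (zpowers_le.2 h7 (mem_zpowers_pow_iff.2 ?_))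
    have h8 : (q - 1).Coprime q := by
      have := hq.pos
      exact (Nat.coprime_self_sub_left this).2 (Nat.coprime_one_left q)
    exact ((h8.coprime_dvd_left h6).pow_right (m + 1)).coprime_dvd_right
      (hK ▸ orderOf_dvd_natCard K hg)
  have h2 := Nat.card_le_card_of_injective (β := S)
    (fun b : zpowers v × zpowers (g * v * g⁻¹) =>
      ⟨b.1 * b.2, mul_mem (zpowers_le.2 hvS b.1.2) (zpowers_le.2 hv' b.2.2)⟩)
    fun b c e => mul_injective_of_disjoint h1 (congrArg Subtype.val e)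
  rw [Nat.card_prod, Nat.card_zpowers, Nat.card_zpowers, hv, ho, hSc, ← pow_succ, ← pow_add,
    Nat.pow_le_pow_iff_right hq.one_lt] at h2
  rw [← pow_succ, ← pow_mul]
  exact (pow_dvd_pow q (by omega)).trans (hm ▸ card_subgroup_dvd_card _)

variable (D : PrinData p x ζ) (hζ : IsPrimitiveRoot ζ p) (h : SC p x)
include h

theorem cmc_eq (a b : G) : (cmc a b x : ℂ) * Nat.card (CC a) * Nat.card (CC b) = Nat.card G *
    (1 + ∑ χ ∈ Xs D, (χ : G → ℂ) a * (χ : G → ℂ) b * D.δ χ / (χ : G → ℂ) 1 +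
      ∑ χ ∈ Ys D, (χ : G → ℂ) a * (χ : G → ℂ) b * conj ((χ : G → ℂ) x) / (χ : G → ℂ) 1) := by
  have h1 := Cfsg.Agent.S0840.result a b x
  rw [finsum_eq_sum_of_fintype, sum_irr_sing D h _ fun χ h1 h2 => by
    rw [other_eq_zero D h h1 h2 h.ord.symm.dvd, map_zero, mul_zero, zero_div], sum_X,
    Finset.sum_congr rfl fun χ hχ => by
      rw [D.X_val χ ((mem_Xs D).1 hχ).2 x h.ord.symm.dvd, map_intCast]] at h1
  simp only [irrOne_apply, map_one, mul_one, div_one] at h1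
  have h2 : ∀ a : G, (Nat.card {y // IsConj a y} : ℂ) * Nat.card (CC a) = Nat.card G := fun a => by
    exact_mod_cast PSL2Rec.card_class_mul_card_centralizer a
  rw [cmc, h1, div_mul_eq_mul_div, div_mul_eq_mul_div, div_mul_eq_mul_div,
    div_eq_iff natCard_ne_zero]
  generalize (1 + _ + _ : ℂ) = s
  linear_combination s * (Nat.card {y // IsConj b y} : ℂ) * Nat.card (CC b) * h2 a +
    s * Nat.card G * h2 b

include hζ

theorem cmc_reg {a b : G} (ha : ¬ p ∣ orderOf a) (hb : ¬ p ∣ orderOf b) :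
    (cmc a b x : ℂ) * Nat.card (CC a) * Nat.card (CC b) = Nat.card G *
    (1 + ∑ χ ∈ Xs D, (χ : G → ℂ) a * (χ : G → ℂ) b * D.δ χ / (χ : G → ℂ) 1 -
      D.ε * (D.Y 1 : G → ℂ) a * (D.Y 1 : G → ℂ) b / z0 D) := by
  rw [cmc_eq D h, Finset.sum_congr (s₁ := Ys D) rfl (g := fun χ =>
    (D.Y 1 : G → ℂ) a * (D.Y 1 : G → ℂ) b / z0 D * conj ((χ : G → ℂ) x)) fun χ hχ => by
      obtain ⟨c, rfl⟩ := (mem_Ys D).1 hχ
      rw [Y_reg D c 1 ha, Y_reg D c 1 hb, Y_one]; ring,
    ← Finset.mul_sum, ← map_sum, sum_Ys_self D hζ, map_neg, map_intCast]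
  ring

omit hζ in
theorem cmc_sing {a : G} (ha : ¬ p ∣ orderOf a) :
    (cmc a x x : ℂ) * Nat.card (CC a) * p = Nat.card G *
    (1 + ∑ χ ∈ Xs D, (χ : G → ℂ) a / (χ : G → ℂ) 1 + (D.Y 1 : G → ℂ) a * (p - ee x) / z0 D) := by
  have h1 : ∀ χ ∈ D.X, (D.δ χ : ℂ) * D.δ χ = 1 := fun χ hχ => by
    rcases D.δ_sign χ hχ with h1 | h1 <;> simp [h1]
  have h2 := column_orthogonality_self x
  rw [sum_irr_sing D h _ fun χ h1 h2 => by rw [other_eq_zero D h h1 h2 h.ord.symm.dvd, zero_mul],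
    Finset.sum_congr rfl fun χ hχ => by rw [D.X_val χ hχ x h.ord.symm.dvd, map_intCast, h1 χ hχ],
    Finset.sum_const, D.card_X, card_U D h.syl, h.card_CC, nsmul_eq_mul, mul_one,
    ← eq_sub_iff_add_eq'] at h2
  rw [← h2, ← congrArg Nat.cast h.card_CC, cmc_eq D h, Finset.sum_congr rfl fun χ hχ => by
    rw [D.X_val χ ((mem_Xs D).1 hχ).2 x h.ord.symm.dvd, mul_assoc, h1 χ ((mem_Xs D).1 hχ).2,
      mul_one], Finset.mul_sum, Finset.sum_div]
  congr 2
  refine Finset.sum_congr rfl fun χ hχ => ?_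
  obtain ⟨c, rfl⟩ := (mem_Ys D).1 hχ
  rw [Y_reg D c 1 ha, Y_one, mul_assoc]

theorem le_of_nonneg (hz : z0 D ≠ 1) (hε : D.ε = 1)
    (h1 : ∀ g : G, ¬ p ∣ orderOf g → ∃ m : ℕ, (D.Y 1 : G → ℂ) g = m) (S : Set G)
    (hS : ∀ g ∈ S, ¬ p ∣ orderOf g ∧ (D.Y 1 : G → ℂ) g = 1) :
    z0 D + S.ncard ≤ ee x * Nat.card (Sylow p G) := by
  classical
  haveI := Fintype.ofFinite G
  choose! f hf using h1
  have h2 : ∑ g : G, ∑ θ ∈ Ys D, (θ : G → ℂ) g = 0 := by
    rw [Finset.sum_comm]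
    refine Finset.sum_eq_zero fun θ hθ => sum_irr_eq_zero θ.2 fun e => ?_
    obtain ⟨c, rfl⟩ := (mem_Ys D).1 hθ
    exact hz (by rw [← deg_Y D c, e, deg_one])
  rw [← Finset.sum_filter_add_sum_filter_not _ (fun g => orderOf g = p), Finset.sum_congr rfl
    (g := fun _ => -1) fun g hg => ?_, Finset.sum_congr (f := fun g => ∑ θ ∈ Ys D, (θ : G → ℂ) g) rfl
    (g := fun g => ((Ys D).card * f g : ℕ)) fun g hg => ?_, Finset.sum_const, ← Fintype.card_subtype,
    ← Nat.card_eq_fintype_card, PSL2Rec.card_orderOf_eq_prime (card_sylow_eq_p h.syl),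
    ← card_Ys_mul D, card_U D h.syl, ← Nat.cast_sum, ← Finset.mul_sum] at h2
  · have h3 : ∑ g with ¬ orderOf g = p, f g = ee x * Nat.card (Sylow p G) := by
      refine Nat.eq_of_mul_eq_mul_left (Hyp.t_pos D) (Nat.cast_injective (R := ℂ) ?_)
      rw [nsmul_eq_mul] at h2
      push_cast at h2 ⊢
      linear_combination h2
    have h4 : f 1 = z0 D := Nat.cast_injective (R := ℂ)
      ((hf 1 not_dvd_orderOf_one).symm.trans (Y_one D 1))
    have h5 : ∀ g ∈ S.toFinset, f g = 1 := fun g hg => Nat.cast_injective (R := ℂ) (by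
      rw [← hf g (hS g (Set.mem_toFinset.1 hg)).1, (hS g (Set.mem_toFinset.1 hg)).2, Nat.cast_one])
    have h6 := Finset.sum_le_sum_of_subset (f := f) (s := insert 1 S.toFinset)
      (t := Finset.univ.filter fun g => ¬ orderOf g = p) fun g hg => by
        refine Finset.mem_filter.2 ⟨Finset.mem_univ _, fun e => ?_⟩
        rcases Finset.mem_insert.1 hg with rfl | hg
        · exact not_dvd_orderOf_one e.symm.dvd
        · exact (hS g (Set.mem_toFinset.1 hg)).1 e.symm.dvd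
    rwa [Finset.sum_insert fun e => hz (h4.symm.trans (h5 1 e)), h3, h4, Finset.sum_congr rfl h5,
      Finset.sum_const, smul_eq_mul, mul_one, ← Set.ncard_eq_toFinset_card'] at h6
  · have h3 : ¬ p ∣ orderOf g := fun e => (Finset.mem_filter.1 hg).2 (h.orderOf_eq e)
    rw [Nat.cast_mul, ← hf g h3, ← nsmul_eq_mul, ← Finset.sum_const]
    refine Finset.sum_congr rfl fun θ hθ => ?_
    obtain ⟨c, rfl⟩ := (mem_Ys D).1 hθ
    exact Y_reg D c 1 h3
  · have h3 := (Finset.mem_filter.1 hg).2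
    obtain ⟨c, hc⟩ := h.syl.exists_conj_mem (h3 ▸ pow_orderOf_eq_one g)
    obtain ⟨a, ha⟩ := exists_unit h.syl hc fun e =>
      PSL2Rec.ne_one_of_orderOf_prime hp.out h3 (conj_eq_one_iff.1 e)
    have h4 := sum_Ys D hζ a (Commute.one_right x) not_dvd_orderOf_one
    rw [mul_one, ← ha, hε, Int.cast_one] at h4
    rw [← h4]
    exact Finset.sum_congr rfl fun θ _ => (irr_isClassFunction θ g c).symm

omit hζ h in
theorem le_card_CC {g : G} (hg : ¬ p ∣ orderOf g) (h1 : (D.Y 1 : G → ℂ) g = -1) :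
    (Ys D).card + 1 ≤ Nat.card (CC g) := by
  classical
  have h2 := Finset.sum_le_sum_of_subset_of_nonneg (f := fun χ : IrrCharacter G =>
    ‖(χ : G → ℂ) g‖ ^ 2) (Finset.subset_univ (insert (irrOne G) (Ys D))) fun _ _ _ => by positivity
  rw [sum_normSq_irr, Finset.sum_insert (Finset.disjoint_left.1 (disjoint_X_Ys D) D.one_mem),
    Finset.sum_congr rfl (g := fun _ => 1) fun θ hθ => by
      obtain ⟨c, rfl⟩ := (mem_Ys D).1 hθ
      rw [Y_reg D c 1 hg, h1]; simp, irrOne_apply, Finset.sum_const, nsmul_eq_mul] at h2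
  simp only [norm_one, one_pow, mul_one] at h2
  rw [add_comm]; exact_mod_cast h2

end CfsgLib.FewSyl
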