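import Cfsg.Agent.Lib.DefectOne.B43_Deg

/-!
Simple groups with fewer than `p ^ 2` Sylow `p`-subgroups: arithmetic.  In the exceptional case
`p = (u + 1) k + 1` and the number of Sylow subgroups is `A B` with `A = p - k`, `B = p + u + 1`.
-/

set_option autoImplicit false

namespace CfsgLib.FewSyl

open CfsgLib.DefectOne.B43

/-- `A = p - k` -/
def nA (u k : ℕ) : ℕ := u * k + 1
/-- `B = p + (u + 1)` -/
def nB (u k : ℕ) : ℕ := (u + 1) * (k + 1) + 1

/-- the parameters of the exceptional case -/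
structure Par (p u k : ℕ) : Prop where
  hp : p = (u + 1) * k + 1
  hu : 1 ≤ u
  huk : u + 1 ≤ k

theorem exists_par {p r : ℕ} (hr : r < p) (h : ¬ NotIII p r) :
    ∃ u k, Par p u k ∧ 1 + r * p = nA u k * nB u k := by
  unfold NotIII at h
  push Not at h
  obtain ⟨h, u, hh, hu, e⟩ := h
  have h1 : h = 1 := by
    by_contra h1
    have h2 : 2 * u * p ≤ h * u * p := by gcongr; omega
    have h3 : r * (u + 1) ≤ p * (u + 1) := by gcongr
    have h4 : p ≤ u * p := Nat.le_mul_of_pos_left _ hu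
    nlinarith
  subst h1
  obtain ⟨m, rfl⟩ : ∃ m, p = m + 1 := ⟨p - 1, by omega⟩
  have h2 : u + 1 ∣ m := by
    have h3 : u + 1 ∣ (u + 1) * (m + u + 1) := dvd_mul_right _ _
    have h4 : (u + 1) * (m + u + 1) = r * (u + 1) + m := by rw [e]; ring
    rw [h4] at h3
    exact (Nat.dvd_add_right (dvd_mul_left _ _)).1 h3
  obtain ⟨k, rfl⟩ := h2
  have h3 : r = u * (k + 1) + 1 := Nat.eq_of_mul_eq_mul_right (Nat.add_one_pos u) (by rw [e]; ring)
  subst h3
  exact ⟨u, k, ⟨rfl, hu, by nlinarith⟩, by unfold nA nB; ring⟩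

namespace Par

variable {p u k : ℕ} (h : Par p u k)
include h

theorem pred : p - 1 = (u + 1) * k := by rw [h.hp]; rfl
theorem n_eq : nA u k * nB u k = 1 + (u * (k + 1) + 1) * p := by rw [h.hp]; unfold nA nB; ring
theorem X_eq : (u + 1) * nA u k = u * p + 1 := by rw [h.hp]; unfold nA; ring
theorem Y_eq : k * nB u k + 1 = (k + 1) * p := by rw [h.hp]; unfold nB; ring
omit h in
theorem cop_A : k.Coprime (nA u k) := by simp [nA]
omit h in
theorem cop_B : (u + 1).Coprime (nB u k) := by simp [nB]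
theorem five_le : 5 ≤ p := by have := h.hu; have := h.huk; rw [h.hp]; nlinarith
theorem k_lt : k < nA u k := by have := h.hu; unfold nA; nlinarith
omit h in
theorem s_lt : u + 1 < nB u k := by unfold nB; nlinarith
theorem X_le_Y : (u + 1) * nA u k ≤ k * nB u k := by
  have h1 := h.X_eq; have h2 := h.Y_eq; have := h.huk; have := h.five_le
  have h3 : (u + 2) * p ≤ (k + 1) * p := Nat.mul_le_mul_right _ (by omega)
  rw [add_mul u] at h3; omega
theorem Y_lt : k * nB u k < nA u k * nB u k :=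
  Nat.mul_lt_mul_of_pos_right h.k_lt (Nat.succ_pos _)
theorem two_p_lt : 2 * p < nA u k * nB u k := by
  have := h.hu; have := h.huk
  have h1 : 2 * p ≤ (u * (k + 1) + 1) * p := by gcongr; nlinarith
  rw [h.n_eq]; omega
theorem lt_sq : nA u k * nB u k < p ^ 2 := by
  have := h.huk; have := h.five_le
  have h1 : (u * (k + 1) + 1 + 1) * p ≤ p * p := Nat.mul_le_mul_right _ (by rw [h.hp]; nlinarith)
  rw [h.n_eq, pow_two]; rw [add_mul _ 1] at h1; omega
theorem XY : (u + 1) * nA u k * (k * nB u k) = (p - 1) * (nA u k * nB u k) := by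
  rw [h.pred]; ring
theorem half : p * p < 2 * (nA u k * nB u k) := by
  have := h.hu; have := h.huk
  have h1 : p * p ≤ 2 * (u * (k + 1) + 1) * p := Nat.mul_le_mul_right _ (by rw [h.hp]; nlinarith)
  rw [h.n_eq]; rw [mul_assoc] at h1; omega
theorem lt_X : p < (u + 1) * nA u k := by have := h.hu; rw [h.X_eq]; nlinarith

theorem aux {a w : ℕ} (e : (a * p + 1) * (w * p + (u + 1) * k) =
    (u + 1) * k * (1 + (u * (k + 1) + 1) * p)) :
    a = 0 ∨ (w = 0 ∧ a = u * (k + 1) + 1) ∨ (a = u ∧ w = k) := by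
  obtain ⟨rfl, hu, huk⟩ := h
  have hr : u * (k + 1) + 1 ≤ (u + 1) * k := by nlinarith
  have hm : 0 < (u + 1) * k := Nat.mul_pos (by omega) (by omega)
  obtain ⟨m, hm'⟩ : ∃ m, m = (u + 1) * k := ⟨_, rfl⟩
  obtain ⟨r, hr'⟩ : ∃ r, r = u * (k + 1) + 1 := ⟨_, rfl⟩
  rw [← hm', ← hr'] at e hr
  rw [← hm'] at hm
  have h1 : m * (a + a * w) + w * (a + 1) = m * r :=
    Nat.eq_of_mul_eq_mul_left (Nat.succ_pos m) (by nlinarith)
  obtain ⟨c, hc⟩ : ∃ c, r = a + a * w + c :=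
    Nat.exists_eq_add_of_le (Nat.le_of_mul_le_mul_left (by omega) hm)
  have h2 : w * (a + 1) = m * c := by rw [hc] at h1; nlinarith
  rcases Nat.eq_zero_or_pos a with ha | ha
  · exact Or.inl ha
  rcases Nat.eq_zero_or_pos c with rfl | hc0
  · have h3 : w = 0 := by simpa using h2
    subst h3
    exact Or.inr (Or.inl ⟨rfl, by rw [← hr', hc]; simp⟩)
  have h3 : w ≤ a * w := Nat.le_mul_of_pos_left _ ha
  have h4 : c = 1 := by
    by_contra h4
    have h5 : m * 2 ≤ m * c := by gcongr; omega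
    nlinarith
  subst h4
  refine Or.inr (Or.inr ?_)
  have h5 : w + u = k + a := by nlinarith
  have h6 : a = u := by
    rcases lt_trichotomy a u with h6 | h6 | h6
    · have : w * (a + 1) < k * (u + 1) := Nat.mul_lt_mul'' (by omega) (by omega)
      nlinarith
    · exact h6
    · have : k * (u + 1) < w * (a + 1) := Nat.mul_lt_mul'' (by omega) (by omega)
      nlinarith
  exact ⟨h6, by omega⟩

theorem pair {z z' : ℕ} (e : z * z' = (p - 1) * (nA u k * nB u k))
    (h1 : (z : ℤ) ≡ 1 [ZMOD p] ∨ (z' : ℤ) ≡ -1 [ZMOD p]) :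
    (z = 1 ∧ z' = (p - 1) * (nA u k * nB u k)) ∨ (z = nA u k * nB u k ∧ z' = p - 1) ∨
      (z = (u + 1) * nA u k ∧ z' = k * nB u k) := by
  have h5 := h.five_le
  have h0 : (z : ℤ) * z' ≡ -1 [ZMOD p] := by
    rw [← Nat.cast_mul, e, h.n_eq, Nat.cast_mul, Nat.cast_sub (by omega)]
    exact Int.modEq_iff_dvd.2 ⟨-1 - (p - 1) * (u * (k + 1) + 1), by push_cast; ring⟩
  have h2 : (z : ℤ) ≡ 1 [ZMOD p] ∧ (z' : ℤ) ≡ -1 [ZMOD p] := by
    rcases h1 with h1 | h1
    · exact ⟨h1, by simpa using (h1.mul_right z').symm.trans h0⟩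
    · exact ⟨by simpa using ((h1.mul_left z).symm.trans h0).neg, h1⟩
  obtain ⟨a, rfl⟩ := exists_eq_of_modEq (r := 1) (by omega) h2.1
  obtain ⟨w, rfl⟩ := exists_eq_of_modEq (z := z') (r := p - 1) (by omega)
    (h2.2.trans (Int.modEq_iff_dvd.2 ⟨1, by rw [Nat.cast_sub (by omega)]; push_cast; ring⟩))
  have e' := e
  rw [h.n_eq, h.pred] at e'
  rcases h.aux e' with rfl | ⟨rfl, rfl⟩ | ⟨rfl, rfl⟩
  · exact Or.inl ⟨by simp, by simpa using e⟩
  · exact Or.inr (Or.inl ⟨by rw [h.n_eq]; ring, by simp⟩)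
  · refine Or.inr (Or.inr ⟨h.X_eq.symm, ?_⟩)
    have := h.Y_eq
    rw [add_mul] at this
    omega

theorem pos {z : ℕ} (e : z ∣ (p - 1) * (nA u k * nB u k)) (h1 : (z : ℤ) ≡ 1 [ZMOD p]) :
    z = 1 ∨ z = nA u k * nB u k ∨ z = (u + 1) * nA u k := by
  obtain ⟨z', e⟩ := e
  exact (h.pair e.symm (Or.inl h1)).imp And.left (Or.imp And.left And.left)

theorem neg {z : ℕ} (e : z ∣ (p - 1) * (nA u k * nB u k)) (h1 : (z : ℤ) ≡ -1 [ZMOD p]) :
    z = (p - 1) * (nA u k * nB u k) ∨ z = p - 1 ∨ z = k * nB u k := by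
  obtain ⟨z', e⟩ := e
  exact (h.pair ((mul_comm _ _).trans e.symm) (Or.inr h1)).imp And.right
    (Or.imp And.right And.right)

end Par

end CfsgLib.FewSyl
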