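import Cfsg.Agent.Lib.DefectOne.B43_Grp
import Cfsg.Agent.Lib.PSL2Rec.Basic

/-!
A simple group with fewer than `p ^ 2` Sylow `p`-subgroups of order `p`: if `C(P) ≠ P` then some
`q`-subgroup of `C(P)`, `q ≠ p`, normalizes no other Sylow `p`-subgroup.
-/

set_option autoImplicit false
set_option linter.unusedSectionVars false

namespace CfsgLib.FewSyl

open Subgroup MulAction CfsgLib.DefectOne CfsgLib.DefectOne.B43

theorem exists_two {G Ω : Type*} [Group G] [Finite G] [Finite Ω] [MulAction G Ω]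
    [IsPretransitive G Ω] (F F' : Set Ω) (h : Nat.card Ω < F.ncard * F'.ncard) :
    ∃ g : G, ∃ a ∈ F, ∃ b ∈ F, a ≠ b ∧ g • a ∈ F' ∧ g • b ∈ F' := by
  classical
  have := Fintype.ofFinite G
  by_contra hc
  push Not at hc
  have hst : ∀ a : Ω, Nat.card (stabilizer G a) * Nat.card Ω = Nat.card G := fun a => by
    rw [← index_stabilizer_of_transitive G a, card_mul_index]
  obtain ⟨a₀, -⟩ : F.Nonempty := Set.nonempty_of_ncard_ne_zero fun h0 => by simp [h0] at h
  have hΩ : 0 < Nat.card Ω := Nat.card_pos_iff.2 ⟨⟨a₀⟩, inferInstance⟩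
  have h1 := Finset.card_mul_le_card_mul (s := F.toFinite.toFinset) (t := Finset.univ)
    (fun (a : Ω) (g : G) => g • a ∈ F') (m := Nat.card (stabilizer G a₀) * F'.ncard) (n := 1)
    (fun a _ => by
      have h2 := PSL2Rec.card_smul_mem (G := G) a F'
      simp only [orbit_eq_univ, Set.mem_univ, true_and] at h2
      rw [Nat.eq_of_mul_eq_mul_right hΩ ((hst a₀).trans (hst a).symm), ← Nat.card_coe_set_eq, ← h2,
        Nat.card_eq_fintype_card, Fintype.card_subtype]
      rfl)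
    fun g _ => Finset.card_le_one.2 fun a ha b hb => by
      simp only [Finset.mem_bipartiteBelow, Set.Finite.mem_toFinset] at ha hb
      by_contra hab
      exact hc g a ha.1 b hb.1 hab ha.2 hb.2
  rw [← Set.ncard_eq_toFinset_card F, Finset.card_univ, ← Nat.card_eq_fintype_card, ← hst a₀,
    mul_one, mul_left_comm] at h1
  exact absurd (Nat.le_of_mul_le_mul_left h1 Nat.card_pos) (not_le.2 h)

variable {G : Type*} [Group G] [Finite G] {p : ℕ} [hp : Fact p.Prime] {x : G}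

theorem eq_of_smul (hs : Syl p x) {Q R : Sylow p G} {v : G} (hv : v ∈ (Q : Subgroup G))
    (h1 : v ≠ 1) (h : v • R = R) : R = Q := by
  have h2 := (Q.isPGroup'.inf_normalizer_sylow R).le
    (mem_inf.2 ⟨hv, Sylow.smul_eq_iff_mem_normalizer.1 h⟩)
  exact Sylow.ext ((PSL2Rec.eq_zpowers_of_prime_card (card_sylow_eq_p hs R) h2.2 h1).trans
    (PSL2Rec.eq_zpowers_of_prime_card (card_sylow_eq_p hs Q) hv h1).symm)

theorem smul_self {Q : Sylow p G} {v : G} (hv : v ∈ (Q : Subgroup G)) : v • Q = Q :=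
  Sylow.smul_eq_iff_mem_normalizer.2 (le_normalizer hv)

/-- the Sylow subgroups normalized by `X` -/
def Fx (p : ℕ) (X : Subgroup G) : Set (Sylow p G) := {R | X ≤ stabilizer G R}

/-- `X` normalizes more than `p` Sylow subgroups -/
def Big (p : ℕ) (X : Subgroup G) : Prop := p + 1 ≤ (Fx p X).ncard

theorem big_of_two (hs : Syl p x) {X : Subgroup G} {Q R : Sylow p G} (h : R ≠ Q) (hQ : Q ∈ Fx p X)
    (hR : R ∈ Fx p X) (hc : X ≤ centralizer (Q : Set G)) : Big p X := by
  have h1 := Set.ncard_le_ncard_of_injOn (s := ((Q : Subgroup G) : Set G)) (t := Fx p X \ {Q})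
    (fun v => v • R) (fun v hv => ⟨fun g hg => ?_, fun e => h ?_⟩) fun v hv w hw e => ?_
  · rw [← Nat.card_coe_set_eq, SetLike.coe_sort_coe, card_sylow_eq_p hs Q] at h1
    have := Set.ncard_sdiff_singleton_add_one hQ
    unfold Big; omega
  · rw [mem_stabilizer_iff, smul_smul, ← hc hg v hv, mul_smul, mem_stabilizer_iff.1 (hR hg)]
  · rw [Set.mem_singleton_iff, smul_eq_iff_eq_inv_smul] at e
    exact e.trans (smul_self (inv_mem hv))
  · by_contra h2
    refine h (eq_of_smul hs (mul_mem (inv_mem hw) hv) (by rwa [Ne, inv_mul_eq_one, eq_comm]) ?_)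
    rw [mul_smul, inv_smul_eq_iff]; exact e

theorem smul_mem_Fx {X : Subgroup G} {R : Sylow p G} (h : R ∈ Fx p X) (g : G) :
    g • R ∈ Fx p (X.map (MulAut.conj g).toMonoidHom) := by
  rintro _ ⟨a, ha, rfl⟩
  simp [mem_stabilizer_iff, mul_smul, mem_stabilizer_iff.1 (h ha)]

theorem Big.conj {X : Subgroup G} (h : Big p X) (g : G) :
    Big p (X.map (MulAut.conj g).toMonoidHom) :=
  h.trans (Set.ncard_le_ncard_of_injOn (fun R => g • R) (fun _ hR => smul_mem_Fx hR g)
    (MulAction.injective g).injOn)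

variable (hs : Syl p x) (hn : Nat.card (Sylow p G) < p ^ 2)
include hs hn

theorem Big.le_cent {X : Subgroup G} (h : Big p X) {Q : Sylow p G} (hQ : Q ∈ Fx p X) :
    X ≤ centralizer (Q : Set G) := fun g hg v hv => by
  by_contra hc
  have h1 : ∀ w ∈ (Q : Subgroup G), Commute w g → w = 1 := fun w hw e => by
    by_contra h1
    obtain ⟨i, rfl⟩ := (PSL2Rec.eq_zpowers_of_prime_card (card_sylow_eq_p hs Q) hw h1).le hv
    exact hc (e.zpow_left i)
  have hgQ := Sylow.smul_eq_iff_mem_normalizer.1 (mem_stabilizer_iff.1 (hQ hg))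
  have h2 := Nat.card_le_card_of_injective
    (fun a : ↥(Q : Subgroup G) × ↥(Fx p X \ {Q}) => (a.1 : G) • (a.2 : Sylow p G))
    fun ⟨a, R⟩ ⟨b, R'⟩ e => by
      have e1 : ((b : G)⁻¹ * a) • R.1 = R'.1 := by rw [mul_smul, inv_smul_eq_iff]; exact e
      have hw : (b : G)⁻¹ * a ∈ (Q : Subgroup G) := mul_mem (inv_mem b.2) a.2
      have h3 : (b : G)⁻¹ * a = 1 := by
        generalize (b : G)⁻¹ * a = w at e1 hw
        refine h1 w hw ?_
        by_contra h3
        refine R.2.2 (eq_of_smul hs (v := w⁻¹ * (g * w * g⁻¹))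
          (mul_mem (inv_mem hw) ((mem_normalizer_iff.1 hgQ w).1 hw)) (fun h4 => h3 ?_) ?_)
        · rw [inv_mul_eq_one, eq_mul_inv_iff_mul_eq] at h4; exact h4
        · rw [mul_smul, mul_smul, mul_smul, mem_stabilizer_iff.1 (inv_mem (R.2.1 hg)), e1,
            mem_stabilizer_iff.1 (R'.2.1 hg), ← e1, inv_smul_smul]
      rw [h3, one_smul] at e1
      exact Prod.ext (Subtype.ext (inv_mul_eq_one.1 h3).symm) (Subtype.ext e1)
  rw [Nat.card_prod, card_sylow_eq_p hs Q, Nat.card_coe_set_eq] at h2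
  have h3 := Set.ncard_sdiff_singleton_add_one hQ
  have h4 : p * p ≤ p * (Fx p X \ {Q}).ncard := by unfold Big at h; gcongr; omega
  rw [pow_two] at hn; omega

theorem Big.sup {X Y : Subgroup G} (hX : Big p X) (hY : Big p Y) :
    ∃ g : G, Big p (X ⊔ Y.map (MulAut.conj g).toMonoidHom) := by
  obtain ⟨g, a, ha, b, hb, hab, ha', hb'⟩ := exists_two (G := G) (Fx p Y) (Fx p X)
    (hn.trans_le (pow_two p ▸ Nat.mul_le_mul (le_of_lt hY) (le_of_lt hX)))
  exact ⟨g, big_of_two hs ((MulAction.injective g).ne hab)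
    (sup_le (c := stabilizer G _) hb' (smul_mem_Fx hb g))
    (sup_le (c := stabilizer G _) ha' (smul_mem_Fx ha g)) (sup_le (hX.le_cent hs hn hb')
      ((hY.conj g).le_cent hs hn (smul_mem_Fx hb g)))⟩

theorem Big.le_KK {X : Subgroup G} (h : Big p X) {P : Sylow p G} (hP : (P : Subgroup G) = zpowers x)
    (hX : P ∈ Fx p X) : X ≤ hs.KK := fun g hg => by
  have hx : x ∈ (P : Subgroup G) := hP ▸ mem_zpowers x
  refine hs.mem_KK.2 ⟨mem_CC.2 (h.le_cent hs hn hX hg x hx), fun ⟨c, hc⟩ => ?_⟩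
  have h0 : c ≠ 0 := fun h0 => (orderOf_pos g).ne' (by rw [hc, h0, mul_zero])
  have h1 : g ^ c ≠ 1 := pow_ne_one_of_lt_orderOf h0
    (hc ▸ lt_mul_of_one_lt_left (Nat.pos_of_ne_zero h0) hp.out.one_lt)
  obtain ⟨Q, hQ⟩ := PSL2Rec.exists_sylow_mem (p := p) (x := g ^ c) (k := 1)
    (by rw [pow_one, ← pow_mul, mul_comm, ← hc, pow_orderOf_eq_one])
  have h2 : Fx p X ⊆ {Q} := fun R hR => eq_of_smul hs hQ h1 (hR (pow_mem hg c))
  have h3 := Set.ncard_le_ncard h2
  have := hp.out.pos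
  rw [Set.ncard_singleton] at h3
  unfold Big at h; omega

theorem exists_T [IsSimpleGroup G] (hW : hs.KK ≠ ⊥) {P : Sylow p G}
    (hP : (P : Subgroup G) = zpowers x) : ∃ q : ℕ, q.Prime ∧ q ≠ p ∧ ∃ T ≤ hs.KK, IsPGroup q T ∧
      ∀ R ∈ Fx p T, R = P := by
  by_contra hc
  push Not at hc
  have hK : hs.KK ≤ centralizer (P : Set G) := fun g hg v hv => by
    obtain ⟨i, rfl⟩ := hP.le hv
    exact (mem_CC.1 (hs.KK_le_CC hg)).zpow_left i
  have hKP : P ∈ Fx p hs.KK := fun g hg => Sylow.smul_eq_iff_mem_normalizer.2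
    (centralizer_le_normalizer _ (hK hg))
  have hpK : ¬ p ∣ Nat.card hs.KK := fun h => by
    obtain ⟨y, hy⟩ := exists_prime_orderOf_dvd_card' p h
    exact (hs.mem_KK.1 y.2).2 (by rw [Subgroup.orderOf_coe, hy])
  have h1 : ∀ q k : ℕ, q.Prime → k ≠ 0 → q ^ k ∣ Nat.card hs.KK →
      ∃ T : Subgroup G, Big p T ∧ Nat.card T = q ^ k := fun q k hq hk h => by
    have := Fact.mk hq
    obtain ⟨S, hS⟩ := Sylow.exists_subgroup_card_pow_prime q h
    obtain ⟨R, h2, h3⟩ := hc q hq (fun e => hpK (e.symm.dvd.trans ((dvd_pow_self q hk).trans h)))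
      (S.map hs.KK.subtype) (map_subtype_le S) ((IsPGroup.of_card hS).map _)
    exact ⟨_, big_of_two hs h3 ((map_subtype_le S).trans hKP) h2 ((map_subtype_le S).trans hK),
      (card_map_of_injective hs.KK.subtype_injective).trans hS⟩
  have hcj : ∀ (X : Subgroup G) (g : G), Nat.card (X.map (MulAut.conj g).toMonoidHom) = Nat.card X :=
    fun X g => card_map_of_injective (MulAut.conj g).injective
  obtain ⟨X, hX, hmax⟩ := Set.exists_max_image {X : Subgroup G | Big p X} (fun X => Nat.card X)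
    (Set.toFinite _) (by
      obtain ⟨q, hq, h⟩ := Nat.exists_prime_and_dvd (mt card_eq_one.1 hW)
      exact (h1 q 1 hq one_ne_zero (by rwa [pow_one])).imp fun _ h => h.1)
  have h2 : Nat.card hs.KK ∣ Nat.card X := (Nat.dvd_iff_prime_pow_dvd_dvd _ _).2 fun q k hq h => by
    rcases eq_or_ne k 0 with rfl | hk
    · simp
    obtain ⟨T, hT, h3⟩ := h1 q k hq hk h
    obtain ⟨g, hg⟩ := Big.sup hs hn hX hT
    rw [← h3, ← hcj T g]
    exact card_dvd_of_le (le_sup_right.trans (eq_of_le_of_card_ge le_sup_left (hmax _ hg)).ge)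
  have h3 : ∀ Y : Subgroup G, Big p Y → Nat.card hs.KK ∣ Nat.card Y → ∀ R ∈ Fx p Y, ∀ g : G,
      g • R = P → Y.map (MulAut.conj g).toMonoidHom = hs.KK := fun Y hY h R hR g e =>
    eq_of_le_of_card_ge ((hY.conj g).le_KK hs hn hP (e ▸ smul_mem_Fx hR g))
      (hcj Y g ▸ Nat.le_of_dvd Nat.card_pos h)
  have h4 : Big p hs.KK := by
    obtain ⟨R, hR⟩ : (Fx p X).Nonempty := Set.nonempty_of_ncard_ne_zero fun h0 => by
      have : Big p X := hX
      unfold Big at this; omega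
    obtain ⟨g, hg⟩ := exists_smul_eq G R P
    exact h3 X hX h2 R hR g hg ▸ Big.conj hX g
  have h5 : ∀ R ∈ Fx p hs.KK, ∀ g : G, g • R = P → g ∈ normalizer (hs.KK : Set G) :=
    fun R hR g e => mem_normalizer_iff_conj_image_eq.2
      (congrArg SetLike.coe (h3 _ h4 dvd_rfl R hR g e))
  have h6 := hp.out.dvd_factorial.1 (hs.dvd_card.trans (PSL2Rec.simple_card_dvd_factorial
    (PSL2Rec.normalizer_ne_top_of_simple hW fun e => hpK (by rw [e, card_top]; exact hs.dvd_card))))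
  have h7 := Nat.card_le_card_of_injective
    (fun a : (G ⧸ normalizer (hs.KK : Set G)) × ↥(Fx p hs.KK) => a.1.out • (a.2 : Sylow p G))
    fun ⟨a, R⟩ ⟨b, R'⟩ e => by
      obtain ⟨g, hg⟩ := exists_smul_eq G R'.1 P
      have h7 := h5 _ R.2 (g * (b.out⁻¹ * a.out)) (by
        rw [mul_smul, mul_smul, ← hg]; exact congrArg _ (inv_smul_eq_iff.2 e))
      rw [mul_mem_cancel_left (h5 _ R'.2 g hg), ← QuotientGroup.eq, QuotientGroup.out_eq',
        QuotientGroup.out_eq'] at h7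
      subst h7
      exact Prod.ext rfl (Subtype.ext (MulAction.injective _ e))
  rw [Nat.card_prod, ← index_eq_card, Nat.card_coe_set_eq] at h7
  have h8 := Nat.mul_le_mul h6 (le_of_lt h4)
  rw [pow_two] at hn; omega

end CfsgLib.FewSyl
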