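import Cfsg.Agent.Lib.FewSyl.Arith
import Cfsg.Agent.Lib.FewSyl.Geo
import Cfsg.Agent.Lib.DefectOne.B43_Main
import Cfsg.Agent.Lib.Glaub.Cong

/-!
Simple groups with fewer than `p ^ 2` Sylow `p`-subgroups: the degrees in the principal block; the
Sylow `p`-subgroups are self-centralizing.
-/

set_option autoImplicit false
set_option linter.unusedSectionVars false
set_option linter.style.haveILetI false

namespace CfsgLib.FewSyl

open Subgroup MulAction Cfsg CfsgLib.Char CfsgLib.ChDeg CfsgLib.DefectOne CfsgLib.DefectOne.B43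
open CfsgLib.Glaub (CongP)

variable {G : Type*} [Group G] [Finite G] {p : ℕ} [hp : Fact p.Prime] {x : G} {ζ : ℂ}

theorem exists_unit (hs : Syl p x) {v : G} (hv : v ∈ zpowers x) (h1 : v ≠ 1) :
    ∃ a : (ZMod p)ˣ, v = x ^ (a : ZMod p).val :=
  ⟨Units.mk0 (hs.pi v) fun h => h1 (by rw [hs.eq_pow_pi hv, h, ZMod.val_zero, pow_zero]),
    hs.eq_pow_pi hv⟩

theorem pow_val_inj (hs : Syl p x) {a b : ZMod p} (h : x ^ a.val = x ^ b.val) : a = b := by
  have := congrArg hs.pi h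
  rwa [hs.pi_pow, hs.pi_pow, ZMod.natCast_zmod_val, ZMod.natCast_zmod_val] at this

theorem cong (D : PrinData p x ζ) (hs : Syl p x) {q : ℕ} [Fact q.Prime] {T : Subgroup G}
    (hT : T ≤ hs.KK) (hq : IsPGroup q T) {P : Sylow p G} (hP : (P : Subgroup G) = zpowers x)
    (hfix : ∀ R ∈ Fx p T, R = P) (χ : IrrCharacter G) {δ : ℤ} (hδ : δ * δ = 1)
    (hχ : ∀ v ∈ zpowers x, v ≠ 1 → (χ : G → ℂ) v = δ) {y : ℕ}
    (hy : charDegree (χ : G → ℂ) * y = ee x * Nat.card (Sylow p G)) {h : G} (h1 : h ∈ zpowers x)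
    (h2 : h ≠ 1) : CongP q y (∑ a ∈ Uf D, (χ : G → ℂ) (x ^ (a : ZMod p).val * h)) := by
  classical
  haveI := Fintype.ofFinite G
  letI : MulAction T G := MulAction.compHom G (MulAut.conj.comp T.subtype)
  have hsm : ∀ (a : T) (g : G), a • g = a * g * (a : G)⁻¹ := fun _ _ => rfl
  have h3 := Glaub.congP_sum_fixed hq (X := G) (fun g => classInd x g * (χ : G → ℂ) (g * h))
    (fun g => IsIntegral.mul (by unfold classInd; split_ifs; exacts [isIntegral_one, isIntegral_zero])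
      (isIntegral_char (irr_isCharacter χ) _)) fun a g => by
      obtain ⟨i, rfl⟩ := h1
      rw [hsm, isClassFunction_classInd x, ← irr_isClassFunction χ (g * _) a, mul_assoc _ _ (x ^ i),
        ← ((mem_CC.1 (hs.KK_le_CC (hT (inv_mem a.2)))).zpow_left i).eq]
      simp only [mul_assoc]
  rw [sum_mul_irr_mul χ.2 (isClassFunction_classInd x), sum_classInd_mul x (irr_isClassFunction χ),
    index_CC hs, ← hy, hχ x (mem_zpowers x) hs.ne_one, hχ h h1 h2, ← irr_deg_cast] at h3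
  convert h3 using 1
  · have : (charDegree (χ : G → ℂ) : ℂ) ≠ 0 := Nat.cast_ne_zero.2 (deg_pos χ.2).ne'
    have h4 : (δ : ℂ) * δ = 1 := by exact_mod_cast hδ
    push_cast; field_simp; linear_combination -(y : ℂ) * h4
  refine Finset.sum_of_injOn (fun a => x ^ (a : ZMod p).val)
    (fun a _ b _ e => Units.ext (pow_val_inj hs e)) (fun a _ => ?_) (fun v hv hv' => ?_)
    fun a ha => ?_
  · refine Finset.mem_coe.2 (Finset.mem_filter.2 ⟨Finset.mem_univ _, fun t => ?_⟩)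
    rw [hsm, ← ((mem_CC.1 (hs.KK_le_CC (hT t.2))).pow_left _).eq, mul_inv_cancel_right]
  · by_contra h4
    have h5 : IsConj v x := by
      by_contra h5
      exact h4 (by rw [classInd_of_not_isConj h5, zero_mul])
    have h6 := (PSL2Rec.orderOf_eq_of_isConj h5).trans hs.ord
    have h7 := PSL2Rec.ne_one_of_orderOf_prime hp.out h6
    obtain ⟨Q, hQ⟩ := PSL2Rec.exists_sylow_mem (p := p) (x := v) (k := 1)
      (by rw [pow_one, ← h6, pow_orderOf_eq_one])
    obtain rfl := hfix Q fun t ht => Sylow.smul_eq_iff_mem_normalizer.2 (by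
      rw [← Sylow.coe_coe, PSL2Rec.eq_zpowers_of_prime_card (card_sylow_eq_p hs Q) hQ h7]
      refine CC_le_NN v (mem_CC.2 ?_)
      have := (Finset.mem_filter.1 hv).2 ⟨t, ht⟩
      rw [hsm, mul_inv_eq_iff_eq_mul] at this
      exact this.symm)
    obtain ⟨a, rfl⟩ := exists_unit hs (hP.le hQ) h7
    exact hv' ⟨a, by simpa [Uf, D.mem_U] using h5.symm, rfl⟩
  · rw [classInd_of_isConj ((D.mem_U a).1 (by simpa [Uf] using ha)).symm, one_mul]

theorem cong' (D : PrinData p x ζ) (hs : Syl p x) {q : ℕ} [hq' : Fact q.Prime] {T : Subgroup G}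
    (hT : T ≤ hs.KK) (hq : IsPGroup q T) {P : Sylow p G} (hP : (P : Subgroup G) = zpowers x)
    (hfix : ∀ R ∈ Fx p T, R = P) (χ : IrrCharacter G) {δ : ℤ} (hδ : δ * δ = 1)
    (hχ : ∀ v ∈ zpowers x, v ≠ 1 → (χ : G → ℂ) v = δ) {y : ℕ}
    (hy : charDegree (χ : G → ℂ) * y = ee x * Nat.card (Sylow p G)) :
    (q : ℤ) ∣ y - ((ee x - 1) * δ + charDegree (χ : G → ℂ)) ∧
      ((Ys D).card ≠ 1 → (q : ℤ) ∣ y - ee x * δ) := by
  classical
  have h0 : ∀ m n : ℤ, CongP q m n → (q : ℤ) ∣ m - n := fun m n h =>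
    (ZMod.intCast_eq_intCast_iff_dvd_sub _ _ _).1 ((Glaub.congP_int_iff hq'.out.ne_zero).1 h).symm
  have h1 : ∀ a b : (ZMod p)ˣ, a ≠ b →
      (χ : G → ℂ) (x ^ (a : ZMod p).val * (x ^ (b : ZMod p).val)⁻¹) = δ := fun a b h =>
    hχ _ (mul_mem (pow_mem (mem_zpowers x) _) (inv_mem (pow_mem (mem_zpowers x) _)))
      fun e => h (Units.ext (pow_val_inj hs (mul_inv_eq_one.1 e)))
  have h2 : ∀ b : (ZMod p)ˣ, CongP q y
      (∑ a ∈ Uf D, (χ : G → ℂ) (x ^ (a : ZMod p).val * (x ^ (b : ZMod p).val)⁻¹)) := fun b =>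
    cong D hs hT hq hP hfix χ hδ hχ hy (inv_mem (pow_mem (mem_zpowers x) _)) fun e =>
      b.ne_zero (pow_val_inj hs (by rw [inv_eq_one.1 e, ZMod.val_zero, pow_zero]))
  have h3 : (Uf D).card = ee x := (card_Uf D).trans (card_U D hs)
  refine ⟨h0 _ _ ?_, fun ht => h0 _ _ ?_⟩
  · have h4 : 1 ∈ Uf D := by simp [Uf]
    have h5 := h2 1
    rw [← Finset.sum_erase_add _ _ h4, Finset.sum_congr rfl fun a ha =>
      h1 a 1 (Finset.ne_of_mem_erase ha), mul_inv_cancel, Finset.sum_const,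
      Finset.card_erase_of_mem h4, h3, nsmul_eq_mul, Nat.cast_sub (ee_pos x), ← irr_deg_cast] at h5
    exact_mod_cast h5
  · obtain ⟨b, hb⟩ : ∃ b, b ∉ Uf D := by
      by_contra h4
      push Not at h4
      have h5 := card_Ys_mul D
      rw [← card_Uf, Finset.eq_univ_of_forall h4, Finset.card_univ, ZMod.card_units] at h5
      have := hp.out.two_le
      exact ht (Nat.eq_of_mul_eq_mul_right (by omega) (h5.trans (one_mul _).symm))
    have h5 := h2 b
    rw [Finset.sum_congr rfl fun a ha => h1 a b fun e => hb (e ▸ ha), Finset.sum_const, h3,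
      nsmul_eq_mul] at h5
    exact_mod_cast h5

/-- the exceptional case -/
structure Hyp (p : ℕ) [Fact p.Prime] (x : G) (ζ : ℂ) (u k : ℕ) : Prop where
  syl : Syl p x
  prim : IsPrimitiveRoot ζ p
  simple : IsSimpleGroup G
  perf : commutator G = ⊤
  par : Par p u k
  card : Nat.card (Sylow p G) = nA u k * nB u k

namespace Hyp

variable {u k : ℕ} (H : Hyp p x ζ u k) (D : PrinData p x ζ)
include H

theorem t_mul : (Ys D).card * ee x = p - 1 := card_U D H.syl ▸ card_Ys_mul D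

omit H in
theorem t_pos : 0 < (Ys D).card := Finset.card_pos.2 ⟨_, Y_mem_Ys D 1⟩

theorem z0_ne : z0 D ≠ 1 := fun h => D.Y_notMem 1 (eq_irrOne H.perf h ▸ D.one_mem)

theorem core : pPrimeCore p G = ⊥ :=
  (H.simple.eq_bot_or_eq_top_of_normal _ inferInstance).resolve_right fun h =>
    Core.not_dvd_card_pPrimeCore hp.out G (by rw [h, card_top]; exact H.syl.dvd_card)

theorem X_cases {χ : IrrCharacter G} (hχ : χ ∈ Xs D) :
    (D.δ χ = 1 ∧ (charDegree (χ : G → ℂ) = nA u k * nB u k ∨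
      charDegree (χ : G → ℂ) = (u + 1) * nA u k)) ∨
    (D.δ χ = -1 ∧ (charDegree (χ : G → ℂ) = (p - 1) * (nA u k * nB u k) ∨
      charDegree (χ : G → ℂ) = p - 1 ∨ charDegree (χ : G → ℂ) = k * nB u k)) := by
  obtain ⟨h1, h2⟩ := (mem_Xs D).1 hχ
  have h4 := (H.card ▸ deg_X_dvd D H.syl h2).trans (Nat.mul_dvd_mul_right (ee_dvd H.syl) _)
  have h5 := D.X_deg χ h2
  rcases D.δ_sign χ h2 with h6 | h6 <;> rw [h6] at h5
  · exact Or.inl ⟨h6, (H.par.pos h4 h5).resolve_left fun h => h1 (eq_irrOne H.perf h)⟩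
  · exact Or.inr ⟨h6, H.par.neg h4 h5⟩

theorem Y_cases :
    (D.ε = -1 ∧ ((Ys D).card * z0 D = nA u k * nB u k ∨ (Ys D).card * z0 D = (u + 1) * nA u k)) ∨
    (D.ε = 1 ∧ ((Ys D).card * z0 D = (p - 1) * (nA u k * nB u k) ∨ z0 D = ee x ∨
      (Ys D).card * z0 D = k * nB u k)) := by
  have ht := H.t_mul D
  have h2 : (Ys D).card * z0 D ∣ (p - 1) * (nA u k * nB u k) := by
    rw [← ht, mul_assoc, ← H.card]; exact Nat.mul_dvd_mul_left _ (z0_dvd D H.prim H.syl)
  have h3 := (D.Y_deg 1).mul_left (Ys D).card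
  rw [deg_Y, card_U D H.syl, ← Nat.cast_mul, mul_left_comm, ← Nat.cast_mul, ht] at h3
  have h4 : ((p - 1 : ℕ) : ℤ) ≡ -1 [ZMOD p] :=
    Int.modEq_iff_dvd.2 ⟨-1, by rw [Nat.cast_sub hp.out.one_le]; push_cast; ring⟩
  have h5 := h3.trans (h4.mul_left D.ε)
  rcases D.ε_sign with hε | hε <;> rw [hε] at h5
  · exact Or.inr ⟨hε, (H.par.neg h2 (by simpa using h5)).imp_right (Or.imp_left fun h =>
      Nat.eq_of_mul_eq_mul_left (t_pos D) (h.trans ht.symm))⟩
  · exact Or.inl ⟨hε, (H.par.pos h2 (by simpa using h5)).resolve_left fun h =>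
      H.z0_ne D (Nat.eq_one_of_mul_eq_one_left h)⟩

theorem X_val {χ : IrrCharacter G} (hχ : χ ∈ Xs D) (v : G) (hv : v ∈ zpowers x) (h : v ≠ 1) :
    (χ : G → ℂ) v = D.δ χ :=
  D.X_val χ ((mem_Xs D).1 hχ).2 v (H.syl.orderOf_of_mem hv h).symm.dvd

theorem Y_val (ht : (Ys D).card = 1) (v : G) (hv : v ∈ zpowers x) (h : v ≠ 1) :
    (D.Y 1 : G → ℂ) v = (-D.ε : ℤ) := by
  obtain ⟨a, rfl⟩ := exists_unit H.syl hv h
  obtain ⟨θ, h1⟩ := Finset.card_eq_one.1 ht
  have h2 := sum_Ys D H.prim a (Commute.one_right x) not_dvd_orderOf_one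
  have h3 := Y_mem_Ys D 1
  rw [h1] at h2 h3
  rw [Finset.sum_singleton, ← Finset.mem_singleton.1 h3, mul_one] at h2
  rw [h2, Int.cast_neg]

include D in
theorem sc_of_const (χ : IrrCharacter G) {δ : ℤ}
    (hχ : ∀ v ∈ zpowers x, v ≠ 1 → (χ : G → ℂ) v = δ)
    (hy : charDegree (χ : G → ℂ) ∣ ee x * Nat.card (Sylow p G))
    (h : (δ = 1 ∧ charDegree (χ : G → ℂ) = (u + 1) * nA u k) ∨
      (δ = -1 ∧ charDegree (χ : G → ℂ) = k * nB u k)) : SC p x := by
  by_contra hc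
  haveI := H.simple
  obtain ⟨P, hP⟩ := H.syl.exists_sylow
  obtain ⟨q, hq, hqp, T, hT, hqT, hfix⟩ := exists_T H.syl (H.card ▸ H.par.lt_sq)
    (fun h => hc (sc_of_forall H.syl fun y hy hy' =>
      h.le (H.syl.mem_KK.2 ⟨mem_CC.2 hy, hy'⟩))) hP
  haveI := Fact.mk hq
  obtain ⟨y, hy⟩ := hy
  obtain ⟨h1, h2⟩ := cong' D H.syl hT hqT hP hfix χ (by rcases h with h | h <;> simp [h.1]) hχ hy.symm
  have h3 := hqT.card_modEq_card_fixedPoints (Sylow p G)
  have h4 : fixedPoints T (Sylow p G) = {P} := Set.eq_singleton_iff_unique_mem.2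
    ⟨fun t => Sylow.smul_eq_iff_mem_normalizer.2 (by
      rw [← Sylow.coe_coe, hP]; exact CC_le_NN x (H.syl.KK_le_CC (hT t.2))),
      fun R hR => hfix R fun t ht => hR ⟨t, ht⟩⟩
  rw [h4, H.card, H.par.n_eq, Nat.card_unique] at h3
  have hq' : Prime (q : ℤ) := Nat.prime_iff_prime_int.1 hq
  have h5 : ∀ m : ℤ, (q : ℤ) ∣ m * p → (q : ℤ) ∣ m := fun m h => (hq'.dvd_or_dvd h).resolve_right
    fun h => hqp ((Nat.prime_dvd_prime_iff_eq hq hp.out).1 (Int.natCast_dvd_natCast.1 h))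
  have h6 : (q : ℤ) ∣ u * (k + 1) + 1 := h5 _ (by
    have := h3.symm.dvd; push_cast at this; simpa using this)
  have hX : ((u : ℤ) + 1) * nA u k = u * p + 1 := by exact_mod_cast H.par.X_eq
  have hY : (k : ℤ) * nB u k + 1 = (k + 1) * p := by exact_mod_cast H.par.Y_eq
  have hpp : (p : ℤ) = (u + 1) * k + 1 := by exact_mod_cast H.par.hp
  by_cases ht : (Ys D).card = 1
  · have h7 := H.t_mul D
    rw [ht, one_mul] at h7
    rw [h7, H.card, ← H.par.XY] at hy
    have h8 : (ee x : ℤ) = p - 1 := by rw [h7, Nat.cast_sub hp.out.one_le]; rfl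
    have h9 : (q : ℤ) ∣ k - u := h5 _ (by
      rcases h with ⟨rfl, h⟩ | ⟨rfl, h⟩ <;> rw [h] at hy h1
      · rw [← Nat.eq_of_mul_eq_mul_left (by have := H.par.lt_X; omega) hy] at h1
        exact h1.trans (dvd_of_eq (by push_cast; linear_combination -h8 + hY - hX))
      · rw [mul_comm] at hy
        rw [← Nat.eq_of_mul_eq_mul_left (by have := H.par.lt_X; have := H.par.X_le_Y; omega) hy]
          at h1
        exact h1.neg_right.trans (dvd_of_eq (by push_cast; linear_combination -h8 + hY - hX)))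
    exact hq'.not_dvd_one (h5 1 ((h6.add h9).trans (dvd_of_eq (by linear_combination -hpp))))
  · have h7 := (h2 ht).sub h1
    rcases h with ⟨rfl, h⟩ | ⟨rfl, h⟩ <;> rw [h] at h7
    · have h8 := h5 u (h7.trans (dvd_of_eq (by push_cast; linear_combination hX)))
      exact hq'.not_dvd_one ((dvd_add_right (h8.mul_right _)).1 h6)
    · have h8 := h5 (k + 1) (h7.trans (dvd_of_eq (by push_cast; linear_combination hY)))
      exact hq'.not_dvd_one ((dvd_add_right (h8.mul_left _)).1 h6)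

include D in
theorem sc : SC p x := by
  by_contra hc
  have h1 : ((nA u k * nB u k : ℕ) : ℤ) ∣ ∑ χ ∈ Xs D, D.δ χ * charDegree (χ : G → ℂ) :=
    Finset.dvd_sum fun χ hχ => by
      have h1 := fun h => hc (H.sc_of_const D χ (H.X_val D hχ)
        (deg_X_dvd D H.syl ((mem_Xs D).1 hχ).2) h)
      rcases H.X_cases D hχ with ⟨h, h' | h'⟩ | ⟨h, h' | h' | h'⟩
      · rw [h']; exact dvd_mul_left _ _
      · exact (h1 (Or.inl ⟨h, h'⟩)).elim
      · rw [h', Nat.cast_mul (p - 1), ← mul_assoc]; exact dvd_mul_left _ _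
      · refine (hc (sc_of_char H.syl H.core χ fun y hy hy' => ?_)).elim
        rw [sumP_X D H.syl ((mem_Xs D).1 hχ).2 hy hy', ← irr_deg_cast, h, h',
          Nat.cast_sub hp.out.one_le]
        push_cast; ring
      · exact (h1 (Or.inr ⟨h, h'⟩)).elim
  have h2 := deg_eq' D
  have h3 := fun ht h => hc (H.sc_of_const D (D.Y 1) (H.Y_val D ht) (z0_dvd D H.prim H.syl) h)
  have h4 := H.par.two_p_lt
  have h5 := H.par.five_le
  have h6 := H.par.X_le_Y
  have h7 := H.par.Y_lt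
  have h8 := H.z0_ne D
  have h9 := z0_pos D
  have h10 : ∀ m : ℤ, m ≠ 0 → ((nA u k * nB u k : ℕ) : ℤ) ∣ m → nA u k * nB u k ≤ m.natAbs :=
    fun m h h' => Nat.le_of_dvd (Int.natAbs_pos.2 h) (Int.natCast_dvd.1 h')
  have h11 : (Ys D).card ≠ 1 → 2 * z0 D ≤ (Ys D).card * z0 D := fun h =>
    Nat.mul_le_mul_right _ (by have := t_pos D; omega)
  rw [← sub_eq_iff_eq_add'] at h2
  rw [← h2] at h1
  rcases H.Y_cases D with ⟨h, h' | h'⟩ | ⟨h, h' | h' | h'⟩ <;> rw [h] at h1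
  · by_cases ht : (Ys D).card = 1
    · rw [ht, one_mul] at h'
      have := h10 1 one_ne_zero (by simpa [h'] using h1.neg_right)
      omega
    · have := h10 _ (by omega) h1
      have := h11 ht
      omega
  · have := h10 _ (by omega) h1
    have := h11 fun ht => h3 ht (Or.inl ⟨by rw [h]; rfl, by rw [← h', ht, one_mul]; rfl⟩)
    omega
  · rw [← H.t_mul D, mul_assoc] at h'
    rw [Nat.eq_of_mul_eq_mul_left (t_pos D) h', Nat.cast_mul (ee x), one_mul] at h1
    have := h10 1 one_ne_zero ((dvd_sub_right (dvd_mul_left _ _)).1 h1)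
    omega
  · refine hc (sc_of_char H.syl H.core (D.Y 1) fun y hy hy' => ?_)
    rw [sumP_Y D H.prim 1 hy hy', Y_one, h', h, card_U D H.syl]; simp
  · have := h10 _ (by omega) h1
    have := h11 fun ht => h3 ht (Or.inr ⟨by rw [h], by rw [← h', ht, one_mul]; rfl⟩)
    omega

end Hyp

end CfsgLib.FewSyl
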