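import Cfsg.Agent.Lib.FewSyl.Base

/-!
The characters induced from the linear characters of `N(P)`, when the exceptional characters of the
principal block add up to a character whose degree is the number of Sylow subgroups.
-/

set_option autoImplicit false
set_option linter.unusedSectionVars false
set_option linter.style.haveILetI false

namespace CfsgLib.FewSyl

open Subgroup Cfsg CfsgLib.Char CfsgLib.ChDeg CfsgLib.DefectOne CfsgLib.DefectOne.B43
open scoped ComplexConjugate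

variable {G : Type*} [Group G] [Finite G] {p : ℕ} [hp : Fact p.Prime] {x : G} {ζ : ℂ}

theorem card_dual : Nat.card ((ZMod p)ˣ →* ℂˣ) = p - 1 := by
  haveI : NeZero ((Monoid.exponent (ZMod p)ˣ : ℕ) : ℂ) :=
    ⟨Nat.cast_ne_zero.2 Monoid.exponent_ne_zero_of_finite⟩
  rw [CommGroup.card_monoidHom_of_hasEnoughRootsOfUnity, Nat.card_eq_fintype_card, ZMod.card_units]

theorem sum_dual [Fintype ((ZMod p)ˣ →* ℂˣ)] {a : (ZMod p)ˣ} (ha : a ≠ 1) :
    ∑ ψ : (ZMod p)ˣ →* ℂˣ, (ψ a : ℂ) = 0 := by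
  haveI : NeZero ((Monoid.exponent (ZMod p)ˣ : ℕ) : ℂ) :=
    ⟨Nat.cast_ne_zero.2 Monoid.exponent_ne_zero_of_finite⟩
  obtain ⟨φ, hφ⟩ := CommGroup.exists_apply_ne_one_of_hasEnoughRootsOfUnity (ZMod p)ˣ ℂ ha
  exact sum_hom_units_eq_zero ((Units.coeHom ℂ).comp (MonoidHom.eval a))
    fun h => hφ (Units.ext (DFunLike.congr_fun h φ))

theorem nuHom_eq_one (hs : Syl p x) {g : NN x} : hs.nuHom g = 1 ↔ (g : G) ∈ CC x := by
  rw [← MonoidHom.mem_ker, hs.ker_nuHom, mem_subgroupOf]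

theorem sum_NN (h : SC p x) [Fintype (NN x)] (c : NN x → ℂ) (c₀ : ℂ) (f : G → ℂ)
    (h1 : ∀ g : NN x, (g : G) ∈ CC x → c g = c₀) (h2 : ∀ g : NN x, (g : G) ∉ CC x → c g * f g = 0) :
    ∑ g, c g * f g = c₀ * ∑ j : ZMod p, f (x ^ j.val) := by
  rw [Finset.mul_sum]
  refine (Finset.sum_of_injOn (fun j => ⟨x ^ j.val, CC_le_NN x (pow_mem (self_mem_CC x) _)⟩)
    (fun a _ b _ e => pow_val_inj h.syl (congrArg Subtype.val e)) (fun _ _ => by simp)
    (fun g _ hg => h2 g fun h3 => hg ⟨h.syl.pi g, by simp,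
      Subtype.ext (h.syl.eq_pow_pi (h.cent.le h3)).symm⟩) fun j _ => ?_).symm
  rw [h1 _ (pow_mem (self_mem_CC x) _)]

variable [Fintype G] (D : PrinData p x ζ) (hζ : IsPrimitiveRoot ζ p) (h : SC p x)

/-- the character induced from a linear character of `N(P)` -/
noncomputable def FF (hs : Syl p x) (ψ : (ZMod p)ˣ →* ℂˣ) : G → ℂ :=
  indFun (NN x) fun g => (ψ (hs.nuHom g) : ℂ)

theorem isChar_FF (hs : Syl p x) (ψ : (ZMod p)ˣ →* ℂˣ) : IsCharacter G (FF hs ψ) :=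
  isCharacter_indFun _ (isCharacter_of_isIrr (isIrr_unitsHom (ψ.comp hs.nuHom)))

theorem inner_FF [Fintype (NN x)] (hs : Syl p x) (ψ : (ZMod p)ˣ →* ℂˣ) (χ : IrrCharacter G) :
    classInner (FF hs ψ) χ = (Nat.card (NN x) : ℂ)⁻¹ *
      ∑ g : NN x, (ψ (hs.nuHom g) : ℂ) * conj ((χ : G → ℂ) g) :=
  classInner_indFun_left _ _ (irr_isClassFunction χ)

include hζ h

theorem inner_FF_Y (ψ : (ZMod p)ˣ →* ℂˣ) (a : (ZMod p)ˣ) :
    classInner (FF h.syl ψ) (D.Y a) = classInner (FF h.syl ψ) (D.Y 1) := by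
  haveI := Fintype.ofFinite (NN x)
  rw [inner_FF, inner_FF, ← sub_eq_zero, ← mul_sub, ← Finset.sum_sub_distrib]
  simp only [← mul_sub, ← map_sub]
  rw [sum_NN h _ 1 (fun g => conj ((D.Y a : G → ℂ) g - (D.Y 1 : G → ℂ) g))
    (fun g hg => by rw [(nuHom_eq_one h.syl).2 hg, map_one, Units.val_one]) fun g hg => by
      rw [Y_reg D a 1 fun h1 => hg (zpowers_le_CC x (h.syl.mem_zpowers_of_mem_NN g.2
        (h.orderOf_eq h1 ▸ pow_orderOf_eq_one (g : G)))), sub_self, map_zero, mul_zero],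
    ← map_sum, Finset.sum_sub_distrib]
  have h1 := fun b => sumP_Y D hζ b (Commute.one_right x) not_dvd_orderOf_one
  simp only [mul_one, Y_one] at h1
  simp [h1]

theorem FF_cases (hz : (Ys D).card * z0 D = Nat.card (Sylow p G)) (ψ : (ZMod p)ˣ →* ℂˣ) :
    classInner (FF h.syl ψ) (D.Y 1) = 0 ∨ (classInner (FF h.syl ψ) (D.Y 1) = 1 ∧
      FF h.syl ψ = ∑ θ ∈ Ys D, (θ : G → ℂ)) := by
  classical
  obtain ⟨m, hm, h1⟩ := exists_char_eq_sum_nat (isChar_FF h.syl ψ)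
  rw [← Finset.sum_add_sum_compl (Ys D), Finset.sum_congr (s₁ := Ys D) rfl
    (g := fun θ => (m (D.Y 1) : ℂ) • (θ : G → ℂ)) fun θ hθ => by
      obtain ⟨a, rfl⟩ := (mem_Ys D).1 hθ
      rw [← hm, ← hm, inner_FF_Y D hζ h], ← Finset.smul_sum] at h1
  have h2 : IsCharacter G (∑ θ ∈ (Ys D)ᶜ, (m θ : ℂ) • (θ : G → ℂ)) :=
    isCharacter_sum _ fun θ _ => isCharacter_natCast_smul _ (irr_isCharacter θ)
  obtain ⟨c, hc⟩ := exists_char_one_eq_nat h2
  have h3 := congrFun h1 1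
  have h4 : (NN x).index = Nat.card (Sylow p G) := Nat.eq_of_mul_eq_mul_right Nat.card_pos
    ((index_mul_card _).trans (card_sylow_mul h.syl).symm)
  rw [Pi.add_apply, hc, Pi.smul_apply, Finset.sum_apply, Finset.sum_congr rfl
    (g := fun _ => (z0 D : ℂ)) fun θ hθ => by
      obtain ⟨a, rfl⟩ := (mem_Ys D).1 hθ
      exact Y_one D a, Finset.sum_const, nsmul_eq_mul, ← Nat.cast_mul, hz, FF, indFun_one,
    h4, map_one, map_one, Units.val_one, mul_one, smul_eq_mul] at h3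
  have h5 : Nat.card (Sylow p G) = m (D.Y 1) * Nat.card (Sylow p G) + c := by exact_mod_cast h3
  have h6 : 0 < Nat.card (Sylow p G) := Nat.card_pos
  rw [hm]
  rcases hμ : m (D.Y 1) with _ | _ | μ
  · exact Or.inl Nat.cast_zero
  · rw [hμ] at h1 h5
    rw [char_eq_zero_of_one_eq_zero h2 (by rw [hc, show c = 0 by omega, Nat.cast_zero])] at h1
    exact Or.inr ⟨by simp, by simpa using h1⟩
  · rw [hμ] at h5; nlinarith

theorem fourier (hε : D.ε = -1) (hz : (Ys D).card * z0 D = Nat.card (Sylow p G)) {r : ℕ}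
    (hn : Nat.card (Sylow p G) = 1 + r * p) {q : ℕ} (hq : q.Prime) (hqe : q ∣ ee x) :
    ∃ c, r + 1 + c ≤ p - 1 ∧ p - 1 ≤ q * c := by
  classical
  have hs := h.syl
  have h2p := hp.out.two_le
  haveI := Fintype.ofFinite (NN x)
  haveI : Finite ((ZMod p)ˣ →* ℂˣ) := Nat.finite_of_card_ne_zero (by rw [card_dual]; omega)
  haveI := Fintype.ofFinite ((ZMod p)ˣ →* ℂˣ)
  haveI := NeZero.mk hq.ne_zero
  have hΨ : Fintype.card ((ZMod p)ˣ →* ℂˣ) = p - 1 := by rw [← Nat.card_eq_fintype_card, card_dual]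
  set S := Finset.univ.filter fun ψ => classInner (FF h.syl ψ) (D.Y 1) = 1 with hS
  have h1 : S.card = r + 1 := by
    have h1 : (S.card : ℂ) = ∑ ψ, classInner (FF h.syl ψ) (D.Y 1) := by
      rw [hS, Finset.card_filter, Nat.cast_sum]
      refine Finset.sum_congr rfl fun ψ _ => ?_
      rcases FF_cases D hζ h hz ψ with h1 | ⟨h1, -⟩ <;> simp [h1]
    simp only [inner_FF] at h1
    rw [← Finset.mul_sum, Finset.sum_comm] at h1
    simp only [← Finset.sum_mul] at h1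
    have h2 := sumP_Y D hζ 1 (Commute.one_right x) not_dvd_orderOf_one
    simp only [mul_one, Y_one, hε, card_U D hs] at h2
    rw [sum_NN h _ (p - 1 : ℕ) (fun g => conj ((D.Y 1 : G → ℂ) g))
      (fun g hg => by simp [(nuHom_eq_one hs).2 hg, hΨ])
      (fun g hg => by rw [sum_dual (mt (nuHom_eq_one hs).1 hg), zero_mul]), ← map_sum, h2,
      h.card_NN, ← card_Ys_mul D, card_U D hs] at h1
    have h3 := card_Ys_mul D
    rw [card_U D hs] at h3
    have h4 : (((Ys D).card * (z0 D + ee x) : ℕ) : ℂ) = ((r + 1) * p : ℕ) := by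
      rw [mul_add, hz, hn, h3, add_mul]; congr 1; omega
    have h5 : (p : ℂ) ≠ 0 := Nat.cast_ne_zero.2 hp.out.ne_zero
    have h6 : (ee x : ℂ) ≠ 0 := Nat.cast_ne_zero.2 (ee_pos x).ne'
    have h7 : (S.card : ℂ) = (r + 1 : ℕ) := by
      rw [h1]; simp only [map_sub, map_mul, map_natCast, map_intCast]
      push_cast at h4 ⊢; field_simp; linear_combination h4
    exact_mod_cast h7
  obtain ⟨w, hw, hw1, hw2, -⟩ := h.exists_gen
  obtain ⟨c, hc⟩ := hqe
  have hc0 : 0 < c := Nat.pos_of_ne_zero fun h0 => (ee_pos x).ne' (by rw [hc, h0, mul_zero])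
  have hy : orderOf (w ^ c) = q := by
    rw [orderOf_pow_of_dvd hc0.ne' (hw1 ▸ hc ▸ dvd_mul_left _ _), hw1, hc, Nat.mul_div_cancel _ hc0]
  have hyN := pow_mem hw c
  generalize w ^ c = y at hy hyN
  have h2 : ∀ g : NN x, orderOf (g : G) = q → orderOf (hs.nuHom g) = q := fun g hg => by
    haveI := Fact.mk hq
    refine orderOf_eq_prime (by
      rw [← map_pow, ← hg, Subgroup.orderOf_coe, pow_orderOf_eq_one, map_one]) fun h2 => ?_
    have h3 := hs.orderOf_of_mem (h.cent.le ((nuHom_eq_one hs).1 h2))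
      (PSL2Rec.ne_one_of_orderOf_prime hq hg)
    have h4 := Nat.le_of_dvd (by omega) ((Dvd.intro _ hc.symm).trans (ee_dvd hs))
    omega
  set a := hs.nuHom ⟨y, hyN⟩ with ha
  have h3 : zpowers a = rootsOfUnity q (ZMod p) := eq_of_le_of_card_ge
    (zpowers_le.2 ((mem_rootsOfUnity _ _).2 (h2 ⟨y, hyN⟩ hy ▸ pow_orderOf_eq_one a)))
    ((card_rootsOfUnity _ _).trans (by rw [Nat.card_zpowers, h2 ⟨y, hyN⟩ hy]))
  have h4 : ∀ (g : G) (hg : g * y * g⁻¹ ∈ NN x), orderOf (hs.nuHom ⟨_, hg⟩) = q := fun g hg =>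
    h2 _ (((MulAut.conj g).orderOf_eq y).trans hy)
  have h5 : ∀ ψ ψ' : (ZMod p)ˣ →* ℂˣ, ψ a = ψ' a → FF hs ψ y = FF hs ψ' y := fun ψ ψ' e => by
    rw [FF, FF, indFun_apply', indFun_apply']
    refine congrArg _ (Finset.sum_congr rfl fun g _ => ?_)
    by_cases hg : g * y * g⁻¹ ∈ NN x
    · rw [extendByZero_of_mem _ _ hg, extendByZero_of_mem _ _ hg]
      obtain ⟨i, hi⟩ := h3.ge ((mem_rootsOfUnity _ _).2
        (h4 g hg ▸ pow_orderOf_eq_one (hs.nuHom ⟨_, hg⟩)))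
      rw [← hi, map_zpow, map_zpow, e]
    · rw [extendByZero_of_not_mem _ _ hg, extendByZero_of_not_mem _ _ hg]
  by_cases h6 : ∀ ψ : (ZMod p)ˣ →* ℂˣ, ∃ ψ' ∈ S, ψ a = ψ' a
  · exfalso
    have h7 : ∀ ψ, FF hs ψ y = (∑ θ ∈ Ys D, (θ : G → ℂ)) y := fun ψ => by
      obtain ⟨ψ', h7, h8⟩ := h6 ψ
      rcases FF_cases D hζ h hz ψ' with h9 | ⟨-, h9⟩
      · exact absurd ((Finset.mem_filter.1 h7).2.symm.trans h9) one_ne_zero
      · rw [h5 ψ ψ' h8, h9]
    have h8 : ∑ ψ, FF hs ψ y = 0 := by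
      simp only [FF, indFun_apply']
      rw [← Finset.mul_sum, Finset.sum_comm, Finset.sum_eq_zero fun g _ => ?_, mul_zero]
      by_cases hg : g * y * g⁻¹ ∈ NN x
      · simp only [extendByZero_of_mem _ _ hg]
        exact sum_dual fun e => hq.ne_one (by rw [← h4 g hg, e, orderOf_one])
      · simp only [extendByZero_of_not_mem _ _ hg, Finset.sum_const_zero]
    rw [Finset.sum_congr rfl fun ψ _ => (h7 ψ).trans (h7 1).symm, Finset.sum_const,
      Finset.card_univ, hΨ, nsmul_eq_mul, FF, indFun_apply'] at h8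
    have h9 := (mul_eq_zero.1 ((mul_eq_zero.1 h8).resolve_left
      (Nat.cast_ne_zero.2 (by omega)))).resolve_left (inv_ne_zero natCard_ne_zero)
    rw [Finset.sum_congr rfl (g := fun g => if g * y * g⁻¹ ∈ NN x then 1 else 0) fun g _ => by
      rw [extendByZero_eq_dite]; simp, Finset.sum_boole, Nat.cast_eq_zero, Finset.card_eq_zero] at h9
    exact Finset.filter_eq_empty_iff.1 h9 (Finset.mem_univ 1) (by simpa using hyN)
  · push Not at h6
    obtain ⟨ψ, h6⟩ := h6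
    let ev : ((ZMod p)ˣ →* ℂˣ) →* ℂˣ := MonoidHom.eval a
    refine ⟨Nat.card ev.ker, ?_, ?_⟩
    · have h7 := Finset.card_le_univ (S ∪ (Finset.univ.filter (· ∈ ev.ker)).image (ψ * ·))
      rwa [Finset.card_union_of_disjoint (Finset.disjoint_left.2 fun φ h7 h8 => by
        obtain ⟨φ', h9, rfl⟩ := Finset.mem_image.1 h8
        exact h6 _ h7 (by
          rw [MonoidHom.mul_apply, show φ' a = 1 from (Finset.mem_filter.1 h9).2, mul_one])),
        Finset.card_image_of_injective _ (mul_right_injective ψ), h1, hΨ, ← Fintype.card_subtype,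
        ← Nat.card_eq_fintype_card] at h7
    · rw [← card_dual, ← ev.ker.index_mul_card, index_ker]
      refine Nat.mul_le_mul_right _ ((card_le_of_le ?_).trans (card_rootsOfUnity ℂ q))
      rintro _ ⟨φ, rfl⟩
      rw [mem_rootsOfUnity, ← h2 ⟨y, hyN⟩ hy]
      exact (map_pow φ _ _).symm.trans (by rw [pow_orderOf_eq_one, map_one])

end CfsgLib.FewSyl
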