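import Cfsg.Agent.Lib.FewSyl.Gen
import Cfsg.Agent.Lib.FewSyl.Four

/-!
Simple groups with fewer than `p ^ 2` Sylow `p`-subgroups: the shape of the principal block.
-/

set_option autoImplicit false
set_option linter.unusedSectionVars false
set_option linter.style.haveILetI false

namespace CfsgLib.FewSyl

open Subgroup Cfsg CfsgLib.Char CfsgLib.ChDeg CfsgLib.DefectOne CfsgLib.DefectOne.B43

variable {G : Type*} [Group G] [Finite G] {p : ℕ} [hp : Fact p.Prime] {x : G} {ζ : ℂ}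

theorem eq_one_of_dvd (D : PrinData p x ζ) {d : ℕ} (h1 : d ∣ z0 D)
    (h2 : ∀ χ ∈ Xs D, d ∣ charDegree (χ : G → ℂ)) : d = 1 := by
  have h3 : (d : ℤ) ∣ ∑ χ ∈ Xs D, D.δ χ * charDegree (χ : G → ℂ) :=
    Finset.dvd_sum fun χ hχ => (Int.natCast_dvd_natCast.2 (h2 χ hχ)).mul_left _
  have h4 := (Int.natCast_dvd_natCast.2 h1).mul_left D.ε
  rw [deg_eq' D] at h4
  exact Nat.dvd_one.1 (Int.natCast_dvd_natCast.1 ((dvd_add_left h3).1 h4))

theorem reg_eq' (D : PrinData p x ζ) {g : G} (hg : ¬ p ∣ orderOf g) :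
    (D.ε : ℂ) * (D.Y 1 : G → ℂ) g = 1 + ∑ χ ∈ Xs D, (D.δ χ : ℂ) * (χ : G → ℂ) g := by
  rw [D.reg_eq 1 g hg, sum_X, D.δ_one, irrOne_apply]; simp

theorem reg_eq_one (D : PrinData p x ζ) {g : G} (hg : ¬ p ∣ orderOf g)
    (h : ∀ χ ∈ Xs D, (χ : G → ℂ) g = 0) : (D.ε : ℂ) * (D.Y 1 : G → ℂ) g = 1 := by
  rw [reg_eq' D hg, Finset.sum_eq_zero fun χ hχ => by rw [h χ hχ, mul_zero], add_zero]

theorem not_dvd_of_dvd_pred {q : ℕ} (hq : q.Prime) (h : q ∣ p - 1) : ¬ q ∣ p := fun h1 =>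
  BHyp.not_dvd_pred ((Nat.prime_dvd_prime_iff_eq hq hp.out).1 h1 ▸ h)

namespace Hyp

variable {u k : ℕ} (H : Hyp p x ζ u k) (D : PrinData p x ζ)
include H

include D in
theorem card_G : Nat.card G = p * ee x * (nA u k * nB u k) := by rw [(H.sc D).card_eq, H.card]

theorem even_t {χ : IrrCharacter G} (hχ : charDegree (χ : G → ℂ) = p - 1) : Even (Ys D).card := by
  have := hp.out.two_le
  refine (even_or_of_deg D H.prim (H.sc D) (H.t_mul D) (χ := χ) (by omega)).resolve_right ?_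
  rw [H.perf, index_top]; exact Nat.not_even_one

include D in
theorem deg_ne (χ : IrrCharacter G) {c : ℕ} (h : ee x ≤ c) :
    charDegree (χ : G → ℂ) ≠ c * (nA u k * nB u k) := fun h1 => by
  have h2 := deg_sq_le_card χ.2
  have h3 := H.par.two_p_lt
  have h4 := ee_pos x
  rw [h1, H.card_G D] at h2
  generalize nA u k * nB u k = n at h2 h3
  have h5 : p * ee x * n < 1 * n * (c * n) := by
    rw [mul_assoc, one_mul]
    exact Nat.mul_lt_mul_of_lt_of_le (by omega) (by gcongr) (Nat.mul_pos (by omega) (by omega))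
  have h6 : 1 * n * (c * n) ≤ c * n * (c * n) := by gcongr; omega
  rw [pow_two] at h2; omega

theorem t_eq_one {χ : IrrCharacter G} (h : charDegree (χ : G → ℂ) = nA u k * nB u k) :
    (Ys D).card = 1 := by
  have h2 := deg_sq_le_card χ.2
  rw [h, H.card_G D, pow_two] at h2
  have h3 := Nat.le_of_mul_le_mul_right h2 (by have := H.par.two_p_lt; omega)
  have h4 := H.par.half
  have h5 := H.t_mul D
  have h6 := t_pos D
  by_contra h7
  have h8 : 2 * ee x ≤ (Ys D).card * ee x := by gcongr; omega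
  have h9 : p * (2 * ee x) ≤ p * p := by gcongr; omega
  linarith

theorem no_n (ht : (Ys D).card = 1) : z0 D ≠ nA u k * nB u k ∧
    ∀ χ ∈ Xs D, charDegree (χ : G → ℂ) ≠ nA u k * nB u k := by
  classical
  have he := H.t_mul D
  rw [ht, one_mul] at he
  have h0 : ∀ χ : IrrCharacter G, charDegree (χ : G → ℂ) ≠ p - 1 := fun χ h =>
    Nat.not_even_one (ht ▸ H.even_t D h)
  have h0' := fun χ => H.deg_ne D χ he.le
  have h1 := H.par.two_p_lt
  have h2 := H.par.X_le_Y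
  have h3 := H.par.XY
  have h4 := H.par.five_le
  have h5 := fun χ (hχ : χ ∈ Xs D) => H.X_cases D hχ
  have h2' := H.par.Y_lt
  have h6 := H.Y_cases D
  have h7 := H.card_G D
  rw [ht, one_mul, he] at h6
  rw [he] at h7
  generalize nA u k * nB u k = n at *
  generalize (u + 1) * nA u k = X at *
  generalize k * nB u k = Y at *
  have hm : p = p - 1 + 1 := by omega
  generalize p - 1 = m at *
  rw [hm] at h7
  let F : ℤ → ℕ → ℤ := fun δ z => z ^ 2 - m * n - (X - Y) * (δ * z)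
  have h3' : (X : ℤ) * Y = m * n := by exact_mod_cast h3
  have h8 : (m : ℤ) * n < F 1 n := by
    have : (0 : ℤ) ≤ (Y - X) * n := mul_nonneg (by omega) (by omega)
    have : (2 * m : ℤ) * n < n * n := mul_lt_mul_of_pos_right (by omega) (by omega)
    simp only [F]; linarith
  have h8' : 0 ≤ F 1 n := le_trans (by positivity) h8.le
  have hX : F 1 X = 0 := by simp only [F]; linear_combination h3'
  have hY : F (-1) Y = 0 := by simp only [F]; linear_combination h3'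
  have h9 : ∀ χ ∈ Xs D, 0 ≤ F (D.δ χ) (charDegree (χ : G → ℂ)) := fun χ hχ => by
    rcases h5 χ hχ with ⟨h, h' | h'⟩ | ⟨h, h' | h' | h'⟩
    · rwa [h, h']
    · rw [h, h', hX]
    · exact (h0' χ h').elim
    · exact (h0 χ h').elim
    · rw [h, h', hY]
  have h10 : 0 ≤ F (-D.ε) (z0 D) := by
    rcases h6 with ⟨h, h' | h'⟩ | ⟨h, h' | h' | h'⟩
    · rwa [h, h', neg_neg]
    · rw [h, h', neg_neg, hX]
    · exact (h0' _ h').elim
    · exact (h0 _ h').elim
    · rw [h, h', hY]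
  have h11 : ∑ χ ∈ Xs D, F (D.δ χ) (charDegree (χ : G → ℂ)) + F (-D.ε) (z0 D) < m * n := by
    have h11 := Finset.sum_le_sum_of_subset (f := fun χ : IrrCharacter G =>
      charDegree (χ : G → ℂ) ^ 2) (Finset.subset_univ (insert (D.Y 1) D.X))
    rw [sum_deg_sq, Finset.sum_insert (D.Y_notMem 1), sum_X, deg_Y, h7, irrOne_coe, deg_one] at h11
    have h12 := deg_eq' D
    have h13 : ((Xs D).card : ℤ) + 1 = m := by exact_mod_cast (card_Xs D H.syl).trans he
    have h14 : (X : ℤ) ≤ Y := by exact_mod_cast h2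
    simp only [F, Finset.sum_sub_distrib, ← Finset.mul_sum, Finset.sum_const, nsmul_eq_mul]
    zify at h11
    rw [eq_sub_of_add_eq' h12.symm, eq_sub_of_add_eq h13]
    linarith
  refine ⟨fun h => ?_, fun χ hχ h => ?_⟩
  · have h12 : D.ε = -1 := by
      rcases h6 with h' | ⟨-, h' | h' | h'⟩
      · exact h'.1
      · exact (h0' _ h').elim
      · exact (h0 _ h').elim
      · omega
    rw [h, h12, neg_neg] at h11
    linarith [Finset.sum_nonneg h9]
  · have h12 : D.δ χ = 1 := by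
      rcases h5 χ hχ with h' | ⟨-, h' | h' | h'⟩
      · exact h'.1
      · exact (h0' _ h').elim
      · exact (h0 _ h').elim
      · omega
    have h13 := Finset.single_le_sum h9 hχ
    simp only [h, h12] at h13
    linarith

theorem X_cases' {χ : IrrCharacter G} (hχ : χ ∈ Xs D) :
    (D.δ χ = 1 ∧ charDegree (χ : G → ℂ) = (u + 1) * nA u k) ∨
    (D.δ χ = -1 ∧ charDegree (χ : G → ℂ) = p - 1) ∨
    (D.δ χ = -1 ∧ charDegree (χ : G → ℂ) = k * nB u k) := by
  rcases H.X_cases D hχ with ⟨h, h' | h'⟩ | ⟨h, h' | h' | h'⟩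
  · exact ((H.no_n D (H.t_eq_one D h')).2 χ hχ h').elim
  · exact Or.inl ⟨h, h'⟩
  · exact (H.deg_ne D χ (Nat.le_of_dvd (by have := hp.out.two_le; omega) (ee_dvd H.syl)) h').elim
  · exact Or.inr (Or.inl ⟨h, h'⟩)
  · exact Or.inr (Or.inr ⟨h, h'⟩)

theorem vanish {χ : IrrCharacter G} (hχ : χ ∈ Xs D) (h1 : D.δ χ = -1)
    (h2 : charDegree (χ : G → ℂ) = p - 1) {g : G} (hg : g ∈ NN x) (hg' : g ∉ CC x) :
    (χ : G → ℂ) g = 0 := by
  have h3 := sumP_X D H.syl ((mem_Xs D).1 hχ).2 (Commute.one_right x) not_dvd_orderOf_one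
  simp only [mul_one] at h3
  refine char_eq_zero_of_sumP H.syl (irr_isCharacter χ) ?_ hg hg'
  rw [h3, ← irr_deg_cast, h1, h2, Nat.cast_sub hp.out.one_le]
  push_cast; ring

theorem mixed {s l A B : ℕ} (hm : p - 1 = s * l) (hn : nA u k * nB u k = A * B) (cA : l.Coprime A)
    (cB : s.Coprime B) (hs : 2 ≤ s) (hX : ∀ χ ∈ Xs D, (D.δ χ = -1 ∧
      charDegree (χ : G → ℂ) = p - 1) ∨ charDegree (χ : G → ℂ) = s * A ∨
      charDegree (χ : G → ℂ) = l * B) (hz : (Ys D).card * z0 D = l * B) :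
    (Ys D).card = l ∧ ee x = s ∧ z0 D = B := by
  have ht := (H.t_mul D).trans hm
  have ht0 := t_pos D
  obtain ⟨c, hc⟩ : (Ys D).card ∣ l := by
    have := Nat.dvd_gcd (Dvd.intro _ (ht.trans (mul_comm _ _))) (Dvd.intro _ hz)
    rwa [Nat.gcd_mul_left, cB.gcd_eq_one, mul_one] at this
  have he : ee x = s * c := Nat.eq_of_mul_eq_mul_left ht0 (by rw [ht, hc]; ring)
  have hz' : z0 D = c * B := Nat.eq_of_mul_eq_mul_left ht0 (by rw [hz, hc]; ring)
  have h1 : s.Coprime (z0 D) := eq_one_of_dvd D (Nat.gcd_dvd_right _ _) fun χ hχ => by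
    rcases hX χ hχ with ⟨-, h⟩ | h | h <;> rw [h]
    · exact hm ▸ (Nat.gcd_dvd_left _ _).mul_right _
    · exact (Nat.gcd_dvd_left _ _).mul_right _
    · exact hz ▸ (Nat.gcd_dvd_right _ _).mul_left _
  suffices h : c = 1 by subst h; exact ⟨by omega, by omega, by omega⟩
  by_contra h2
  obtain ⟨q, hq, hqc⟩ := Nat.exists_prime_and_dvd h2
  obtain ⟨q', hq', hqs⟩ := Nat.exists_prime_and_dvd (show s ≠ 1 by omega)
  obtain ⟨w, hw, hw1, hw2, -⟩ := (H.sc D).exists_gen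
  have hG := H.card_G D
  rw [he, hn] at hG
  have h3 : ∀ χ : IrrCharacter G, z0 D ∣ charDegree (χ : G → ℂ) → (χ : G → ℂ) w = 0 := fun χ h =>
    irr_eq_zero_of_not_dvd χ (c := p * s * A) (by rw [hG, hz']; ring) hq
      (hq.not_dvd_mul (hq.not_dvd_mul
        (not_dvd_of_dvd_pred hq (hm ▸ hc ▸ (hqc.mul_left _).mul_left _))
        fun h => hq.ne_one (Nat.eq_one_of_dvd_coprimes h1 h (hz' ▸ hqc.mul_right _)))
        fun h => hq.ne_one (Nat.eq_one_of_dvd_coprimes cA (hc ▸ hqc.mul_left _) h)) h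
      (hw1 ▸ he ▸ hqc.mul_left _)
  have h4 := reg_eq_one D (g := w) (fun h => BHyp.not_dvd_pred (h.trans (hw1 ▸ ee_dvd H.syl)))
    fun χ hχ => by
    rcases hX χ hχ with ⟨h, h'⟩ | h | h
    · exact H.vanish D hχ h h' hw fun h => ee_ne_one_of_perfect H.syl H.perf
        (Nat.dvd_one.1 (hw2 1 (by rwa [pow_one])))
    · exact irr_eq_zero_of_not_dvd χ (c := p * z0 D) (by rw [hG, hz']; ring) hq'
        (hq'.not_dvd_mul (not_dvd_of_dvd_pred hq' (hm ▸ hqs.mul_right _))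
          fun h => hq'.ne_one (Nat.eq_one_of_dvd_coprimes h1 hqs h)) h.symm.dvd
        (hw1 ▸ he ▸ hqs.mul_right _)
    · exact h3 χ (h ▸ hz ▸ dvd_mul_left _ _)
  rw [h3 _ (deg_Y D 1).symm.dvd, mul_zero] at h4
  exact zero_ne_one h4

theorem counts : ∃ b c d : ℕ, b + c + d + 1 = ee x ∧
    D.ε * z0 D = ee x + p * (c * u - b - d * (k + 1)) ∧
    (b ≠ 0 → (Ys D).card ∣ nA u k * nB u k ∧ Even (Ys D).card) ∧ (c ≠ 0 → u + 1 ∣ ee x) ∧
    (d ≠ 0 → k ∣ ee x) ∧ ∀ χ ∈ Xs D,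
      (D.δ χ = 1 ∧ charDegree (χ : G → ℂ) = (u + 1) * nA u k ∧ c ≠ 0) ∨
      (D.δ χ = -1 ∧ charDegree (χ : G → ℂ) = p - 1 ∧ b ≠ 0) ∨
      (D.δ χ = -1 ∧ charDegree (χ : G → ℂ) = k * nB u k ∧ d ≠ 0) := by
  classical
  have hX := H.par.X_eq
  have hY := H.par.Y_eq
  have h1 := H.par.lt_X
  have h2 := H.par.X_le_Y
  have h3 : ∀ χ ∈ Xs D, charDegree (χ : G → ℂ) ∣ ee x * (nA u k * nB u k) := fun χ hχ =>
    H.card ▸ deg_X_dvd D H.syl ((mem_Xs D).1 hχ).2
  have h4 : ∀ {P : IrrCharacter G → Prop} [DecidablePred P],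
      ((Xs D).filter P).card ≠ 0 ↔ ∃ χ ∈ Xs D, P χ := by
    intro P _
    rw [Finset.card_ne_zero, Finset.filter_nonempty_iff]
  refine ⟨((Xs D).filter fun χ : IrrCharacter G => charDegree (χ : G → ℂ) = p - 1).card,
    ((Xs D).filter fun χ => D.δ χ = 1).card,
    ((Xs D).filter fun χ => D.δ χ = -1 ∧ charDegree (χ : G → ℂ) = k * nB u k).card, ?_, ?_,
    fun h => ?_, fun h => ?_, fun h => ?_, fun χ hχ => ?_⟩
  · rw [← card_Xs D H.syl, Finset.card_eq_sum_ones (Xs D)]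
    simp only [Finset.card_filter, ← Finset.sum_add_distrib]
    refine congrArg (· + 1) (Finset.sum_congr rfl fun χ hχ => ?_)
    rcases H.X_cases' D hχ with ⟨h, h'⟩ | ⟨h, h'⟩ | ⟨h, h'⟩ <;> rw [h, h']
    · rw [if_pos rfl, if_neg (by omega), if_neg (by omega)]
    · rw [if_pos rfl, if_neg (by omega), if_neg (by omega)]
    · rw [if_neg (by omega), if_neg (by omega), if_pos ⟨rfl, rfl⟩]
  · rw [deg_eq', ← card_Xs D H.syl, Finset.card_eq_sum_ones (Xs D)]
    simp only [Finset.card_filter, Nat.cast_add, Nat.cast_sum, Finset.sum_mul,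
      ← Finset.sum_sub_distrib, Finset.mul_sum]
    rw [add_comm _ (Nat.cast 1), add_assoc, ← Finset.sum_add_distrib]
    refine congrArg (1 + ·) (Finset.sum_congr rfl fun χ hχ => ?_)
    rcases H.X_cases' D hχ with ⟨h, h'⟩ | ⟨h, h'⟩ | ⟨h, h'⟩ <;> rw [h, h']
    · rw [hX, if_pos rfl, if_neg (by omega), if_neg (by omega)]; push_cast; ring
    · rw [if_neg (by omega), if_pos rfl, if_neg (by omega), Nat.cast_sub hp.out.one_le]
      push_cast; ring
    · rw [if_neg (by omega), if_neg (by omega), if_pos ⟨rfl, rfl⟩]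
      zify at hY
      push_cast; linear_combination -hY
  · obtain ⟨χ, hχ, h⟩ := h4.1 h
    have h5 := h3 χ hχ
    rw [h, ← H.t_mul D, mul_comm (ee x)] at h5
    exact ⟨Nat.dvd_of_mul_dvd_mul_right (ee_pos x) h5, H.even_t D h⟩
  · obtain ⟨χ, hχ, h⟩ := h4.1 h
    have h5 := h3 χ hχ
    rw [((H.X_cases' D hχ).resolve_right (by omega)).2, mul_comm (nA u k), ← mul_assoc] at h5
    exact Par.cop_B.dvd_of_dvd_mul_right (Nat.dvd_of_mul_dvd_mul_right (Nat.succ_pos _) h5)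
  · obtain ⟨χ, hχ, -, h⟩ := h4.1 h
    have h5 := h3 χ hχ
    rw [h, ← mul_assoc] at h5
    exact Par.cop_A.dvd_of_dvd_mul_right (Nat.dvd_of_mul_dvd_mul_right (Nat.succ_pos _) h5)
  · exact (H.X_cases' D hχ).imp (fun h => ⟨h.1, h.2, h4.2 ⟨χ, hχ, h.1⟩⟩)
      (Or.imp (fun h => ⟨h.1, h.2, h4.2 ⟨χ, hχ, h.2⟩⟩) fun h => ⟨h.1, h.2, h4.2 ⟨χ, hχ, h⟩⟩)

end Hyp

end CfsgLib.FewSyl
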