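import Cfsg.Agent.Lib.FewSyl.Cases
import Cfsg.Agent.S1230

/-!
Simple groups with fewer than `p ^ 2` Sylow `p`-subgroups: the cases.
-/

set_option autoImplicit false
set_option linter.unusedSectionVars false
set_option linter.style.haveILetI false

namespace CfsgLib.FewSyl

open Subgroup Cfsg CfsgLib.Char CfsgLib.ChDeg CfsgLib.DefectOne CfsgLib.DefectOne.B43

variable {G : Type*} [Group G] [Finite G] {p : ℕ} [hp : Fact p.Prime] {x : G} {ζ : ℂ}

namespace Hyp

variable {u k : ℕ} (H : Hyp p x ζ u k) (D : PrinData p x ζ)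
include H

theorem two_dvd : 2 ∣ p - 1 :=
  (hp.out.even_sub_one (by have := H.par.five_le; omega)).two_dvd

theorem not_IV (hε : D.ε = -1) (hz : (Ys D).card * z0 D = nA u k * nB u k) : False := by
  haveI := Fintype.ofFinite G
  obtain ⟨hpp, hu, huk⟩ := H.par
  have h := H.sc D
  have ht := H.t_mul D
  have ht2 : 2 ≤ (Ys D).card := by
    have := t_pos D
    have : (Ys D).card ≠ 1 := fun h1 => (H.no_n D h1).1 (by rw [← hz, h1, one_mul])
    omega
  have h1 : ∀ q : ℕ, q.Prime → q ∣ ee x → u + 1 < q := fun q hq hqe => by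
    obtain ⟨c, h1, h2⟩ := fourier D H.prim h hε (hz.trans H.card.symm) (H.card.trans H.par.n_eq)
      hq hqe
    rw [H.par.pred] at h1 h2
    have h3 : q * c < q * k := Nat.mul_lt_mul_of_pos_left (by nlinarith) hq.pos
    exact Nat.lt_of_mul_lt_mul_right (h2.trans_lt h3)
  obtain ⟨b, c, d, h2, h3, -, h4, -, h5⟩ := H.counts D
  obtain rfl : c = 0 := by
    by_contra h6
    exact absurd (h1 _ (Nat.minFac_prime (by omega)) ((Nat.minFac_dvd _).trans (h4 h6)))
      (not_lt.2 (Nat.minFac_le (by omega)))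
  obtain rfl : d = 0 := by
    by_contra h6
    rw [H.par.n_eq] at hz
    rw [H.par.pred, ← h2] at ht
    rw [hε, ← h2] at h3
    generalize (Ys D).card = t at *
    zify at hz ht hpp
    push_cast at h3
    have h7 : (t : ℤ) * (b + d * (k + 1)) = u * (k + 1) + 2 :=
      mul_left_cancel₀ (Int.natCast_ne_zero.2 hp.out.ne_zero)
        (by linear_combination hz + ht - hpp + t * h3)
    have h8 : (1 : ℤ) * 2 ≤ d * k := by gcongr <;> omega
    have h9 : (2 : ℤ) * 1 ≤ t * (d * k - 1) := by gcongr <;> omega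
    have h10 : (u : ℤ) + 1 ≤ k := by omega
    linarith
  have h6 : ∀ χ ∈ Xs D, charDegree (χ : G → ℂ) = p - 1 := fun χ hχ => by
    rcases h5 χ hχ with h | h | h
    exacts [(h.2.2 rfl).elim, h.2.1, (h.2.2 rfl).elim]
  have h7 : (p - 1).Coprime (z0 D) := eq_one_of_dvd D (Nat.gcd_dvd_right _ _) fun χ hχ =>
    h6 χ hχ ▸ Nat.gcd_dvd_left _ _
  have hG : Nat.card G = p * z0 D * (p - 1) := by rw [H.card_G D, ← hz, ← ht]; ring
  obtain ⟨j, hj⟩ := exists_prime_orderOf_dvd_card' (G := G) 2 (hG ▸ H.two_dvd.mul_left _)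
  have h2p := not_dvd_of_dvd_pred Nat.prime_two H.two_dvd
  have hpj : ¬ p ∣ orderOf j := fun h8 => BHyp.not_dvd_pred (h8.trans (hj ▸ H.two_dvd))
  have h8 : ∀ χ ∈ Xs D, (χ : G → ℂ) j = 0 := fun χ hχ =>
    irr_eq_zero_of_not_dvd χ hG Nat.prime_two (Nat.prime_two.not_dvd_mul h2p fun h =>
      absurd (Nat.eq_one_of_dvd_coprimes h7 H.two_dvd h) (by omega)) (h6 χ hχ).symm.dvd hj.symm.dvd
  have h9 := reg_eq_one D hpj h8
  have h10 := cmc_reg D H.prim h hpj hpj
  have h11 : cmc j j x = 0 := Nat.card_eq_zero.2 (Or.inl ⟨fun ⟨⟨i, i'⟩, h11, h12, h13⟩ => by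
    have h14 := (PSL2Rec.orderOf_eq_of_isConj h11).symm.trans hj
    have h15 : i⁻¹ = i := by rw [inv_eq_iff_mul_eq_one, ← pow_two, ← h14, pow_orderOf_eq_one]
    have h16 : i'⁻¹ = i' := by
      rw [inv_eq_iff_mul_eq_one, ← pow_two, ← hj, PSL2Rec.orderOf_eq_of_isConj h12,
        pow_orderOf_eq_one]
    have h17 : i ∈ NN x := SmallSimple.mem_normalizer_zpowers (by
      have : i * x * i⁻¹ = x⁻¹ := by
        rw [← h13, mul_inv_rev, h16, ← mul_assoc]
        nth_rw 1 [← h15]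
        rw [inv_mul_cancel, one_mul]
      rw [this]; exact inv_mem (mem_zpowers x))
    have h18 := orderOf_dvd_natCard _ h17
    rw [h14, h.card_NN] at h18
    have := h1 2 Nat.prime_two ((Nat.prime_two.dvd_mul.1 h18).resolve_left h2p)
    omega⟩)
  rw [h11, Finset.sum_eq_zero fun χ hχ => by rw [h8 χ hχ]; simp, h9] at h10
  rw [hε] at h9
  have h12 : (z0 D : ℂ) ≠ 0 := Nat.cast_ne_zero.2 (z0_pos D).ne'
  have h13 := (mul_eq_zero.1 (h10.symm.trans (by simp))).resolve_left natCard_ne_zero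
  field_simp at h13
  push_cast at h9
  exact Nat.cast_ne_zero.2 (z0 D).succ_ne_zero (by push_cast; linear_combination h13 - h9)

theorem not_V (hε : D.ε = -1) (hz : (Ys D).card * z0 D = (u + 1) * nA u k) : False := by
  obtain ⟨hpp, hu, huk⟩ := H.par
  obtain ⟨ht, he, hz'⟩ := H.mixed D (H.par.pred.trans (mul_comm _ _)) (mul_comm _ _) Par.cop_B
    Par.cop_A (by omega) (fun χ hχ => by have := H.X_cases' D hχ; tauto) hz
  obtain ⟨b, c, d, h2, h3, h4, h5, -⟩ := H.counts D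
  rw [hε, hz', he, nA] at h3
  rw [he] at h2 h5
  rw [ht, mul_comm] at h4
  have h6 : b ≠ 0 → u + 1 ∣ u * k + 1 := fun h => Par.cop_B.dvd_of_dvd_mul_left (h4 h).1
  have h7 : (c : ℤ) * u - b - d * (k + 1) = -1 :=
    mul_left_cancel₀ (Int.natCast_ne_zero.2 hp.out.ne_zero)
      (by zify at hpp; push_cast at h3; linear_combination hpp - h3)
  have h8 : c * (u + 1) + 2 = (d + 1) * k := by zify at h2 ⊢; linear_combination h7 + h2
  rcases eq_or_ne c 0 with rfl | hc
  · obtain rfl : k = 2 := by nlinarith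
    obtain rfl : u = 1 := by omega
    omega
  · have h9 : u + 1 ∣ 2 := (Nat.dvd_add_right (dvd_mul_left _ _)).1 (h8 ▸ (h5 hc).mul_left _)
    obtain rfl : u = 1 := by have := Nat.le_of_dvd two_pos h9; omega
    obtain rfl : d = 0 := by
      by_contra h10
      have : 2 * k ≤ (d + 1) * k := by gcongr; omega
      omega
    omega

theorem II (hε : D.ε = 1) (hz : (Ys D).card * z0 D = k * nB u k) :
    (Ys D).card = k ∧ ee x = u + 1 ∧ z0 D = nB u k ∧
    ((u = 1 ∧ ∀ χ ∈ Xs D, charDegree (χ : G → ℂ) = (u + 1) * nA u k) ∨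
      (k = u + 2 ∧ Even u ∧ ∀ χ ∈ Xs D, charDegree (χ : G → ℂ) = (u + 1) * nA u k ∨
        D.δ χ = -1 ∧ charDegree (χ : G → ℂ) = p - 1)) := by
  obtain ⟨hpp, hu, huk⟩ := H.par
  obtain ⟨ht, he, hz'⟩ := H.mixed D H.par.pred rfl Par.cop_A Par.cop_B (by omega)
    (fun χ hχ => by have := H.X_cases' D hχ; tauto) hz
  refine ⟨ht, he, hz', ?_⟩
  obtain ⟨b, c, d, h2, h3, h4, -, h5, h6⟩ := H.counts D
  rw [hε, hz', he, nB] at h3
  rw [he] at h2 h5
  rw [ht] at h4
  have h7 : (c : ℤ) * u - b - d * (k + 1) = 1 :=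
    mul_left_cancel₀ (Int.natCast_ne_zero.2 hp.out.ne_zero)
      (by zify at hpp; push_cast at h3; linear_combination -hpp - h3)
  have h8 : d ≠ 0 → k = u + 1 := fun h => le_antisymm (Nat.le_of_dvd (by omega) (h5 h)) huk
  rcases eq_or_ne b 0 with rfl | hb
  · rcases eq_or_ne d 0 with rfl | hd
    · obtain rfl : c = u := by omega
      refine Or.inl ⟨Nat.eq_one_of_mul_eq_one_left (m := c) (by zify; simpa using h7), fun χ hχ => ?_⟩
      rcases h6 χ hχ with h | h | h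
      exacts [h.2.1, (h.2.2 rfl).elim, (h.2.2 rfl).elim]
    exfalso
    obtain rfl := h8 hd
    obtain rfl : u = 2 * d + 1 := by
      zify at h2 ⊢
      exact mul_left_cancel₀ (by omega : (u : ℤ) + 1 ≠ 0)
        (by push_cast at h7; linear_combination h7 - u * h2)
    obtain ⟨w, -, hw, -⟩ := (H.sc D).exists_gen
    have hG := H.card_G D
    have h9 : ¬ 2 ∣ (zpowers w).index := by
      have h9 := (zpowers w).card_mul_index
      rw [Nat.card_zpowers, hw, hG, mul_comm p, mul_assoc] at h9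
      rw [Nat.eq_of_mul_eq_mul_left (ee_pos x) h9]
      refine Nat.prime_two.not_dvd_mul (not_dvd_of_dvd_pred Nat.prime_two H.two_dvd)
        (Nat.prime_two.not_dvd_mul ?_ ?_)
      · exact Nat.two_dvd_ne_zero.2 (Nat.odd_iff.1 ⟨(2 * d + 1) * (d + 1), by rw [nA]; ring⟩)
      · exact Nat.two_dvd_ne_zero.2 (Nat.odd_iff.1 ⟨(2 * d + 3) * (d + 1), by rw [nB]; ring⟩)
    obtain ⟨Q⟩ : Nonempty (Sylow 2 (zpowers w)) := inferInstance
    haveI := H.simple
    refine not_cyc H.perf ((hw ▸ he ▸ ⟨d + 1, by ring⟩ : 2 ∣ orderOf w).trans (orderOf_dvd_natCard w))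
      ((Q.isPGroup'.map (zpowers w).subtype).toSylow ?_) (isCyclic_of_le (map_subtype_le _))
    rw [index_map_subtype]
    exact Nat.prime_two.not_dvd_mul Q.not_dvd_index h9
  · have h9 := Par.cop_A.dvd_of_dvd_mul_left (h4 hb).1
    rw [nB, mul_add, add_assoc, mul_one, Nat.dvd_add_right (dvd_mul_left _ _)] at h9
    have h10 : k ≠ u + 1 := fun h => by
      rw [← h, Nat.dvd_add_right dvd_rfl, Nat.dvd_one] at h9; omega
    obtain rfl : k = u + 2 := by have := Nat.le_of_dvd (by omega) h9; omega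
    refine Or.inr ⟨rfl, (Nat.even_add.1 (h4 hb).2).2 even_two, fun χ hχ => ?_⟩
    rcases h6 χ hχ with h | h | h
    exacts [Or.inl h.2.1, Or.inr ⟨h.1, h.2.1⟩, (h10 (h8 h.2.2)).elim]

theorem F1 (hε : D.ε = 1) (hz : z0 D = p + 2)
    (hG : Nat.card G = p * (p + 1) * (p + 2)) (hX : ∀ χ ∈ Xs D, charDegree (χ : G → ℂ) = p + 1) :
    (∃ m, p + 1 = 2 ^ m) ∧ ∃ (F : Type) (_ : Field F) (_ : Fintype F), Fintype.card F = p + 1 ∧
      Nonempty (G ≃* Matrix.ProjectiveSpecialLinearGroup (Fin 2) F) := by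
  have h := H.sc D
  have h5 := H.par.five_le
  have c1 : p.Coprime (p + 1) := by simp
  have c2 : (p + 1).Coprime (p + 2) := by
    rw [show p + 2 = p + 1 + 1 from rfl]; simp
  have h2p : 2 ∣ p + 1 := by have := H.two_dvd; omega
  have h1 : ∀ (g : G) (q : ℕ), q.Prime → q ∣ p + 1 → q ∣ orderOf g → ¬ p ∣ orderOf g ∧
      (∀ χ ∈ Xs D, (χ : G → ℂ) g = 0) ∧ (D.Y 1 : G → ℂ) g = 1 := fun g q hq h1 h2 => by
    have h3 : ¬ q ∣ p := fun h => hq.ne_one (Nat.eq_one_of_dvd_coprimes c1 h h1)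
    have h4 : ¬ p ∣ orderOf g := fun h4 => h3 (h.orderOf_eq h4 ▸ h2)
    have h6 : ∀ χ ∈ Xs D, (χ : G → ℂ) g = 0 := fun χ hχ =>
      irr_eq_zero_of_not_dvd χ (hG.trans (mul_right_comm _ _ _)) hq (hq.not_dvd_mul h3 fun h =>
        hq.ne_one (Nat.eq_one_of_dvd_coprimes c2 h1 h)) (hX χ hχ).symm.dvd h2
    exact ⟨h4, h6, by simpa [hε] using reg_eq_one D h4 h6⟩
  have h2 : ∀ g : G, ¬ p ∣ orderOf g → ∃ m : ℕ, (D.Y 1 : G → ℂ) g = m := fun g hg => by
    rcases eq_or_ne (orderOf g) 1 with h2 | h2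
    · exact ⟨_, orderOf_eq_one_iff.1 h2 ▸ Y_one D 1⟩
    obtain ⟨q, hq, h3⟩ := Nat.exists_prime_and_dvd h2
    by_cases h4 : q ∣ p + 1
    · exact ⟨1, (h1 g q hq h4 h3).2.2.trans Nat.cast_one.symm⟩
    · exact ⟨0, (irr_eq_zero_of_not_dvd _ hG hq (hq.not_dvd_mul (fun h => hg
        ((Nat.prime_dvd_prime_iff_eq hq hp.out).1 h ▸ h3)) h4) ((deg_Y D 1).trans hz).symm.dvd
        h3).trans Nat.cast_zero.symm⟩
  have h3 : ∀ j : G, orderOf j = 2 → Nat.card (CC j) = p + 1 := fun j hj => by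
    obtain ⟨h3, h4, h6⟩ := h1 j 2 Nat.prime_two h2p hj.symm.dvd
    have h7 := cmc_reg D H.prim h h3 h3
    rw [Finset.sum_eq_zero fun χ hχ => by rw [h4 χ hχ]; simp, h6, hε, hz, hG] at h7
    have h8 : cmc j j x * Nat.card (CC j) ^ 2 = p * (p + 1) ^ 2 := by
      have : (p : ℂ) + 2 ≠ 0 := by exact_mod_cast (show p + 2 ≠ 0 by omega)
      refine Nat.cast_injective (R := ℂ) ?_
      push_cast at h7 ⊢
      field_simp at h7
      linear_combination h7
    have h9 := (cmc_inv_le hj hj x).trans h.card_CC.le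
    generalize cmc j j x = N at h8 h9
    generalize Nat.card (CC j) = c at h8
    have h10 : p.Coprime c := hp.out.coprime_iff_not_dvd.2 fun ⟨l, hl⟩ => by
      rw [hl, mul_pow, pow_two p, mul_assoc, mul_left_comm] at h8
      have := Nat.eq_of_mul_eq_mul_left hp.out.pos h8
      rw [mul_left_comm] at this
      exact hp.out.ne_one (Nat.eq_one_of_dvd_coprimes (c1.pow_right 2) dvd_rfl (Dvd.intro _ this))
    have h11 := (Nat.pow_dvd_pow_iff two_ne_zero).1
      ((h10.symm.pow_left 2).dvd_of_dvd_mul_left (Dvd.intro_left _ h8))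
    refine le_antisymm (Nat.le_of_dvd (by omega) h11) ((Nat.pow_le_pow_iff_left two_ne_zero).1
      (Nat.le_of_mul_le_mul_left (h8.ge.trans (by gcongr)) hp.out.pos))
  obtain ⟨j, hj⟩ := exists_prime_orderOf_dvd_card' (G := G) 2 (hG ▸ (h2p.mul_left _).mul_right _)
  have h4 : ∀ (g : G) (q : ℕ), q.Prime → q ∣ p + 1 → q ∣ orderOf g → orderOf g = 2 :=
    fun g q hq h4 h6 => by
    by_contra h7
    have h8 := le_of_nonneg D H.prim h (H.z0_ne D) hε h2 (insert g {y | IsConj j y}) (by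
      rintro y (rfl | hy)
      · exact (h1 _ q hq h4 h6).imp_right And.right
      · exact (h1 y 2 Nat.prime_two h2p
          (hj.symm.trans (PSL2Rec.orderOf_eq_of_isConj hy)).dvd).imp_right And.right)
    have h9 := PSL2Rec.card_class_mul_card_centralizer j
    have h10 := h.card_eq
    rw [h3 j hj, hG, mul_right_comm] at h9
    rw [hG, mul_assoc, mul_assoc] at h10
    rw [Set.ncard_insert_of_notMem (s := {y | IsConj j y})
      fun e => h7 ((PSL2Rec.orderOf_eq_of_isConj e).symm.trans hj),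
      ← Nat.card_coe_set_eq, ← Nat.eq_of_mul_eq_mul_left hp.out.pos h10, hz] at h8
    have h11 := Nat.eq_of_mul_eq_mul_right (by omega) h9
    change _ + (Nat.card {y // IsConj j y} + 1) ≤ _ at h8
    rw [h11] at h8
    linarith
  have h6 := Nat.eq_prime_pow_of_unique_prime_dvd (n := p + 1) (p := 2) (by omega)
    fun {q} hq h6 => by
      haveI := Fact.mk hq
      obtain ⟨y, hy⟩ := exists_prime_orderOf_dvd_card' (G := G) q
        (hG ▸ (h6.mul_left _).mul_right _)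
      exact hy.symm.trans (h4 y q hq h6 hy.symm.dvd)
  obtain ⟨T⟩ : Nonempty (Sylow 2 G) := inferInstance
  have h7 : Nat.card (T : Subgroup G) = p + 1 := (PSL2Rec.card_sylow_of_eq (m := p * (p + 2))
    (by rw [← h6, hG]; ring) (Nat.prime_two.not_dvd_mul (by omega) (by omega)) T).trans h6.symm
  haveI := H.simple
  refine ⟨⟨_, h6⟩, h7 ▸ Cfsg.Agent.S1230.result T
    (not_cyc H.perf (hj ▸ orderOf_dvd_natCard j) T) (fun hn => ?_) fun t ht => ?_⟩
  · rcases hn.eq_bot_or_eq_top with h8 | h8 <;> rw [h8] at h7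
    · rw [card_bot] at h7; omega
    · rw [card_top, hG] at h7
      have : 1 * (p + 1) * (p + 2) ≤ p * (p + 1) * (p + 2) := by gcongr; omega
      nlinarith
  · have h8 : ∀ c ∈ CC t, c ^ 2 = 1 := fun c hc => by
      rcases eq_or_ne (orderOf c) 1 with h8 | h8
      · rw [orderOf_eq_one_iff.1 h8, one_pow]
      · obtain ⟨q, hq, h9⟩ := Nat.exists_prime_and_dvd h8
        rw [← h4 c q hq (h9.trans (h3 t ht ▸ orderOf_dvd_natCard _ hc)) h9, pow_orderOf_eq_one]
    exact ⟨⟨⟨fun a b => Commute.of_orderOf_dvd_two (fun g => orderOf_dvd_of_pow_eq_one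
      (Subtype.ext (h8 g g.2))) a b⟩⟩, h8⟩

end Hyp

end CfsgLib.FewSyl
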