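import Cfsg.Agent.Lib.FewSyl.Elim

/-!
Simple groups with fewer than `p ^ 2` Sylow `p`-subgroups: the case `p = s ^ 2 + s + 1`.
-/

set_option autoImplicit false
set_option linter.unusedSectionVars false
set_option linter.style.haveILetI false

namespace CfsgLib.FewSyl

open Subgroup Cfsg CfsgLib.Char CfsgLib.ChDeg CfsgLib.DefectOne CfsgLib.DefectOne.B43

variable {G : Type*} [Group G] [Finite G] {p : ℕ} [hp : Fact p.Prime] {x : G} {ζ : ℂ}

theorem not_dvd_card_CC (h : SC p x) {g : G} (h1 : g ≠ 1) (h2 : ¬ p ∣ orderOf g) :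
    ¬ p ∣ Nat.card (CC g) := fun h3 => by
  obtain ⟨v, hv⟩ := exists_prime_orderOf_dvd_card' p h3
  rw [← Subgroup.orderOf_coe] at hv
  exact h2 ((h.of_orderOf hv).syl.orderOf_of_mem
    ((h.of_orderOf hv).cent.le (mem_CC.2 (mem_CC.1 v.2).symm)) h1).symm.dvd

namespace Hyp

variable {u k : ℕ} (H : Hyp p x ζ u k) (D : PrinData p x ζ)
include H

theorem F2 {s : ℕ} (hε : D.ε = 1) (hs : 4 ≤ s) (hodd : Odd s) (hpp : p = s * (s + 1) + 1)
    (ht : (Ys D).card = s + 1) (he : ee x = s) (hz : z0 D = (s + 1) ^ 2)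
    (hG : Nat.card G = p * s ^ 3 * (s + 1) ^ 2) (hX : ∀ χ ∈ Xs D, charDegree (χ : G → ℂ) = s ^ 3 ∨
      D.δ χ = -1 ∧ charDegree (χ : G → ℂ) = p - 1) : False := by
  have h := H.sc D
  have hm : p - 1 = s * (s + 1) := by omega
  have c1 : s.Coprime (s + 1) := by simp
  have c2 : p.Coprime s := by rw [hpp]; simp
  have c3 : p.Coprime (s + 1) := by rw [hpp]; simp
  have hs0 : (s : ℂ) ≠ 0 := Nat.cast_ne_zero.2 (by omega)
  have hs1 : (s : ℂ) + 1 ≠ 0 := by exact_mod_cast s.succ_ne_zero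
  have hp0 : (p : ℂ) ≠ 0 := Nat.cast_ne_zero.2 hp.out.ne_zero
  have h1 : ∀ (g : G) (q : ℕ), q.Prime → q ∣ s → q ∣ orderOf g → ¬ p ∣ orderOf g ∧
      ∀ χ : IrrCharacter G, charDegree (χ : G → ℂ) = s ^ 3 → (χ : G → ℂ) g = 0 :=
    fun g q hq h1 h2 => by
    have h3 : ¬ q ∣ p := fun h => hq.ne_one (Nat.eq_one_of_dvd_coprimes c2 h h1)
    exact ⟨fun h4 => h3 (h.orderOf_eq h4 ▸ h2), fun χ hχ =>
      irr_eq_zero_of_not_dvd χ (hG.trans (mul_right_comm _ _ _)) hq (hq.not_dvd_mul h3 fun h =>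
        hq.ne_one (Nat.eq_one_of_dvd_coprimes (c1.pow_right 2) h1 h)) hχ.symm.dvd h2⟩
  obtain ⟨w, hw, hw1, hw2, -⟩ := h.exists_gen
  rw [he] at hw1 hw2
  have h2 : ∀ q : ℕ, q.Prime → q ∣ s → ∃ y : G, orderOf y = q ∧ (D.Y 1 : G → ℂ) y = 1 ∧
      (∀ g : G, ¬ p ∣ orderOf g → (cmc y g x * Nat.card (CC y) * Nat.card (CC g) : ℂ) =
        p * s ^ 3 * ((s + 1) ^ 2 - (D.Y 1 : G → ℂ) g)) ∧ Nat.card (CC y) ∣ s ^ 2 ∧
      (q ^ s.factorization q) ^ 2 ∣ Nat.card (CC y) := fun q hq hqs => by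
    obtain ⟨a, ha⟩ : ∃ a, s.factorization q = a + 1 :=
      ⟨_, (Nat.succ_pred_eq_of_pos (hq.factorization_pos_of_dvd (by omega) hqs)).symm⟩
    obtain ⟨c, hc⟩ := Nat.ordProj_dvd s q
    rw [ha, pow_succ] at hc ⊢
    have hc0 : 0 < c := Nat.pos_of_ne_zero fun h0 => by rw [h0] at hc; omega
    have hv : orderOf (w ^ c) = q ^ a * q := by
      rw [orderOf_pow_of_dvd hc0.ne' (hw1 ▸ Dvd.intro_left _ hc.symm), hw1, hc,
        Nat.mul_div_cancel _ hc0]
    have hy : orderOf ((w ^ c) ^ q ^ a) = q := by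
      rw [orderOf_pow_of_dvd (pow_pos hq.pos a).ne' (hv ▸ dvd_mul_right _ _), hv,
        Nat.mul_div_cancel_left _ (pow_pos hq.pos a)]
    have h2 := sq_dvd_card_cent hq hv
    have hyN := pow_mem (pow_mem hw c) (q ^ a)
    generalize (w ^ c) ^ q ^ a = y at hy h2 hyN
    obtain ⟨h3, h4⟩ := h1 y q hq hqs hy.symm.dvd
    have h5 : ∀ χ ∈ Xs D, (χ : G → ℂ) y = 0 := fun χ hχ => (hX χ hχ).elim (h4 χ) fun h5 =>
      H.vanish D hχ h5.1 h5.2 hyN fun h6 => h3 (h.syl.orderOf_of_mem (h.cent.le h6)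
        (PSL2Rec.ne_one_of_orderOf_prime hq hy)).symm.dvd
    have h6 : (D.Y 1 : G → ℂ) y = 1 := by simpa [hε] using reg_eq_one D h3 h5
    have h7 : ∀ g : G, ¬ p ∣ orderOf g → (cmc y g x * Nat.card (CC y) * Nat.card (CC g) : ℂ) =
        p * s ^ 3 * ((s + 1) ^ 2 - (D.Y 1 : G → ℂ) g) := fun g hg => by
      rw [cmc_reg D H.prim h h3 hg, Finset.sum_eq_zero fun χ hχ => by rw [h5 χ hχ]; simp, h6, hε,
        hz, hG]
      push_cast; field_simp; ring
    have h8 : Nat.card (CC y) ∣ s ^ 2 := by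
      have h8 : cmc y y x * Nat.card (CC y) ^ 2 = (s ^ 2) ^ 2 * (p * (s + 2)) :=
        Nat.cast_injective (R := ℂ) (by
          have := h7 y h3
          rw [h6] at this
          push_cast; linear_combination this)
      have h9 : (Nat.card (CC y)).Coprime p := (hp.out.coprime_iff_not_dvd.2
        (not_dvd_card_CC h (PSL2Rec.ne_one_of_orderOf_prime hq hy) h3)).symm
      have h10 := card_subgroup_dvd_card (CC y)
      rw [hG, mul_assoc] at h10
      have h11 : (s ^ 3 * (s + 1) ^ 2).Coprime (s + 2) := Nat.Coprime.mul_left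
        (Nat.Coprime.pow_left _ (by simpa using hodd))
        (Nat.Coprime.pow_left _ (by rw [show s + 2 = s + 1 + 1 from rfl]; simp))
      exact (Nat.pow_dvd_pow_iff two_ne_zero).1 (((h9.mul_right (h11.coprime_dvd_left
        (h9.dvd_of_dvd_mul_left h10))).pow_left 2).dvd_of_dvd_mul_right (Dvd.intro_left _ h8))
    refine ⟨y, hy, h6, h7, h8, h2 ?_⟩
    by_contra h9
    have h10 : q ^ (3 * s.factorization q) ∣ Nat.card (CC y) * (CC y).index := by
      rw [card_mul_index, hG, mul_comm 3, pow_mul]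
      exact ((pow_dvd_pow_of_dvd (Nat.ordProj_dvd s q) 3).mul_left _).mul_right _
    have h11 := (hq.pow_dvd_iff_le_factorization (by positivity)).1
      ((((hq.coprime_iff_not_dvd.2 h9).pow_left _).dvd_of_dvd_mul_right h10).trans h8)
    rw [Nat.factorization_pow, Finsupp.smul_apply, smul_eq_mul] at h11
    omega
  obtain ⟨q₀, hq₀, hq₀s⟩ := Nat.exists_prime_and_dvd (show s ≠ 1 by omega)
  obtain ⟨y, hy, hy1, hy2, hy3, -⟩ := h2 q₀ hq₀ hq₀s
  have h3 : ∀ g : G, ¬ p ∣ orderOf g → (D.Y 1 : G → ℂ) g ≠ -1 := fun g hg h3 => by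
    have h4 : g ≠ 1 := fun h4 => by
      rw [h4, Y_one] at h3
      exact (z0 D).succ_ne_zero (Nat.cast_injective (R := ℂ) (by push_cast; linear_combination h3))
    have h5 : ∀ q : ℕ, q.Prime → q ∣ s → (q ^ s.factorization q) ^ 2 * Nat.card (CC g) ∣ s ^ 3 :=
      fun q hq hqs => by
      obtain ⟨y, -, -, h5, h6, h7⟩ := h2 q hq hqs
      have h8 : cmc y g x * (Nat.card (CC y) * Nat.card (CC g)) = s ^ 3 * (p * (p + (s + 1))) :=
        Nat.cast_injective (R := ℂ) (by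
          have h8 := h5 g hg
          have h9 : (p : ℂ) = s * (s + 1) + 1 := by exact_mod_cast hpp
          rw [h3] at h8
          push_cast; linear_combination h8 - p * s ^ 3 * h9)
      have h9 : (Nat.card G).Coprime (p + (s + 1)) := by
        rw [hG]
        refine ((Nat.coprime_self_add_right.2 c3).mul_left (Nat.Coprime.pow_left _ ?_)).mul_left
          (Nat.Coprime.pow_left _ (Nat.coprime_add_self_right.2 c3.symm))
        rw [hpp, show s * (s + 1) + 1 + (s + 1) = 2 + s * (s + 2) by ring]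
        simpa using hodd
      exact (Nat.mul_dvd_mul_right h7 _).trans (Nat.Coprime.dvd_of_dvd_mul_right
        ((((c2.symm.pow_left 2).coprime_dvd_left h6).mul_left (hp.out.coprime_iff_not_dvd.2
          (not_dvd_card_CC h h4 hg)).symm).mul_right
          ((h9.coprime_dvd_left (card_subgroup_dvd_card _)).mul_left
            (h9.coprime_dvd_left (card_subgroup_dvd_card _)))) (Dvd.intro_left _ h8))
    have h6 : Nat.card (CC g) ∣ s := (Nat.dvd_iff_prime_pow_dvd_dvd _ _).2 fun q i hq h6 => by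
      rcases eq_or_ne i 0 with rfl | hi
      · simp
      have h7 := (Nat.mul_dvd_mul_left _ h6).trans (h5 q hq (hq.dvd_of_dvd_pow
        (((dvd_pow_self q hi).trans h6).trans (Dvd.dvd.trans (dvd_mul_left _ _) (h5 q₀ hq₀ hq₀s)))))
      rw [← pow_mul, ← pow_add, hq.pow_dvd_iff_le_factorization (by positivity),
        Nat.factorization_pow, Finsupp.smul_apply, smul_eq_mul] at h7
      exact (hq.pow_dvd_iff_le_factorization (by omega)).2 (by omega)
    have h7 := le_card_CC D hg h3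
    have := Nat.le_of_dvd (by omega) h6
    omega
  have h4 : ∀ g : G, ¬ p ∣ orderOf g → ∃ m : ℕ, (D.Y 1 : G → ℂ) g = m := fun g hg => by
    rcases eq_or_ne (orderOf g) 1 with h4 | h4
    · exact ⟨_, orderOf_eq_one_iff.1 h4 ▸ Y_one D 1⟩
    obtain ⟨q, hq, h5⟩ := Nat.exists_prime_and_dvd h4
    by_cases h6 : q ∣ s
    swap
    · exact ⟨0, (irr_eq_zero_of_not_dvd _ hG hq (hq.not_dvd_mul (fun h => hg
        ((Nat.prime_dvd_prime_iff_eq hq hp.out).1 h ▸ h5)) (mt hq.dvd_of_dvd_pow h6))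
        ((deg_Y D 1).trans hz).symm.dvd h5).trans Nat.cast_zero.symm⟩
    obtain ⟨n, hn⟩ := exists_int_of_isIntegral_of_rat (isIntegral_char (irr_isCharacter (D.Y 1)) g)
      ⟨(s + 1) ^ 2 - cmc y g x * Nat.card (CC y) * Nat.card (CC g) / (p * s ^ 3), by
        push_cast; rw [hy2 g hg]; field_simp; ring⟩
    have h7 := cmc_sing D h hg
    have h8 := reg_eq' D hg
    rw [Finset.sum_congr rfl (g := fun χ => -((p - 1 : ℕ) : ℂ)⁻¹ * (D.δ χ * (χ : G → ℂ) g))
      fun χ hχ => by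
        rcases hX χ hχ with h9 | ⟨h9, h10⟩
        · simp [(h1 g q hq h6 h5).2 χ h9]
        · rw [← irr_deg_cast, h9, h10]; push_cast; ring, ← Finset.mul_sum,
      eq_sub_of_add_eq' h8.symm, hn, hε, hz, hG, he, hm] at h7
    have h9 : ((cmc g x x * Nat.card (CC g) : ℕ) : ℤ) = p * s ^ 2 * (s + 1 + (s - 1) * n) :=
      Int.cast_injective (α := ℂ) (by
        have h9 : (p : ℂ) = s * (s + 1) + 1 := by exact_mod_cast hpp
        push_cast at h7 ⊢
        field_simp at h7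
        rw [h7, h9]; ring)
    have h10 : (0 : ℤ) ≤ s + 1 + (s - 1) * n := nonneg_of_mul_nonneg_right
      (h9 ▸ Int.natCast_nonneg _) (by have := hp.out.pos; positivity)
    have h11 : n ≠ -1 := fun e => h3 g hg (by rw [hn, e]; simp)
    have h12 : 0 ≤ n := by
      by_contra h12
      have : ((s : ℤ) - 1) * n ≤ (s - 1) * (-2) := by gcongr <;> omega
      omega
    obtain ⟨m, rfl⟩ := Int.eq_ofNat_of_zero_le h12
    exact ⟨m, hn.trans (Int.cast_natCast m)⟩
  have h5 := le_of_nonneg D H.prim h (H.z0_ne D) hε h4 {g | IsConj y g} fun g hg =>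
    ⟨(h1 g q₀ hq₀ hq₀s (hy.symm.trans (PSL2Rec.orderOf_eq_of_isConj hg)).dvd).1,
      (classFun_eq_of_isConj (irr_isClassFunction _) hg).symm.trans hy1⟩
  have h6 := PSL2Rec.card_class_mul_card_centralizer y
  have h7 := h.card_eq
  rw [← Nat.card_coe_set_eq] at h5
  change _ + Nat.card {g // IsConj y g} ≤ _ at h5
  rw [← h6, mul_assoc] at h7
  have h8 := Nat.mul_le_mul (le_trans (Nat.le_add_left _ _) h5) (Nat.le_of_dvd (by positivity) hy3)
  rw [h7, mul_comm] at h8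
  have := Nat.le_of_mul_le_mul_left h8 (Nat.mul_pos (ee_pos x) Nat.card_pos)
  nlinarith

end Hyp

end CfsgLib.FewSyl
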